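import Cfsg.Agent.Lib.LocalEven.TIEndgame.Setup
import Cfsg.Agent.Lib.LocalEven.BenderSplit.SplitTheorem

/-!
# The group induced on the line of a bad involution

The group generated by the members commuting with `x` acts on the points fixed by `x`; the image is a
smaller setting of Theorem T, so by induction it has a rank-one set-up at each point.
-/

set_option autoImplicit false
set_option linter.style.haveILetI false

namespace CfsgLib.LocalEven.TIEndgame

open MulAction

universe u

namespace Line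

/-- A rank-one set-up passes along an equivariant bijection. -/
theorem setup_transfer {G : Type*} [Group G] {α β : Type*} [MulAction G α] [MulAction G β] {a : α}
    {t : G} {Q : Subgroup G} (hS : Cfsg.IsRankOneSetup G α a t Q) (e : α → β)
    (he : Function.Bijective e) (hsmul : ∀ (g : G) (p : α), e (g • p) = g • e p) :
    Cfsg.IsRankOneSetup G β (e a) t Q := by
  have hst : ∀ p : α, stabilizer G (e p) = stabilizer G p := fun p => by
    ext g
    rw [mem_stabilizer_iff, mem_stabilizer_iff, ← hsmul, he.1.eq_iff]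
  have hst2 : stabilizer G (t • e a) = stabilizer G (t • a) := by rw [← hsmul, hst]
  refine ⟨?_, hS.mul_self, hS.ne_one, by rw [hst]; exact hS.not_mem, by rw [hst]; exact hS.le,
    by rw [hst]; exact hS.conj_mem, by rw [hst2]; exact hS.inf_eq_bot,
    by rw [hst, hst2]; exact hS.sup_eq, hS.even_card, by rw [hst, hst2]; exact hS.odd_card⟩
  refine is_two_pretransitive_iff.2 fun {p q r s} hpq hrs => ?_
  obtain ⟨p, rfl⟩ := he.2 p
  obtain ⟨q, rfl⟩ := he.2 q
  obtain ⟨r, rfl⟩ := he.2 r
  obtain ⟨s, rfl⟩ := he.2 s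
  obtain ⟨g, hg, hg'⟩ := is_two_pretransitive_iff.1 hS.two_transitive
    (fun h => hpq (congrArg e h)) (fun h => hrs (congrArg e h))
  exact ⟨g, by rw [← hsmul, hg], by rw [← hsmul, hg']⟩

/-- Without bad involutions there is a rank-one set-up at every point. -/
theorem exists_setup_of_noBad {G Ω : Type u} [Group G] [Finite G] [MulAction G Ω] [FaithfulSMul G Ω]
    [IsPretransitive G Ω] [Nontrivial Ω] (hno : NoBad G Ω) (a : Ω) {r : G} (hr : orderOf r = 2)
    (hra : r • a = a)
    (hcomm : ∃ x y : G, orderOf x = 2 ∧ orderOf y = 2 ∧ x ≠ y ∧ Commute x y) :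
    ∃ (t : G) (Q : Subgroup G), Cfsg.IsRankOneSetup G Ω a t Q := by
  haveI : Fact (Nat.Prime 2) := ⟨Nat.prime_two⟩
  have hH : Cfsg.IsStronglyEmbedded (stabilizer G a) := by
    refine ⟨fun h => ?_, ?_, fun g hg => ?_⟩
    · obtain ⟨b, hb⟩ := exists_ne a
      obtain ⟨g, hg⟩ := exists_smul_eq G a b
      exact hb (hg.symm.trans (mem_stabilizer_iff.1 (h ▸ Subgroup.mem_top g)))
    · rw [even_iff_two_dvd, ← hr]
      exact Subgroup.orderOf_dvd_natCard _ (mem_stabilizer_iff.2 hra)
    · rw [← Nat.not_even_iff_odd, even_iff_two_dvd]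
      intro h2
      rw [← stabilizer_smul_eq_stabilizer_map_conj] at h2
      obtain ⟨⟨w, hw⟩, hwo⟩ := exists_prime_orderOf_dvd_card' 2 h2
      rw [Subgroup.orderOf_mk] at hwo
      exact hno w ⟨hwo, a, g • a, fun e => hg (mem_stabilizer_iff.2 e.symm), hw.1, hw.2⟩
  have hcore : (stabilizer G a).normalCore = ⊥ := by
    refine (Subgroup.eq_bot_iff_forall _).2 fun x hx => eq_of_smul_eq_smul (α := Ω) fun b => ?_
    obtain ⟨g, rfl⟩ := exists_smul_eq G a b
    have h := mem_stabilizer_iff.1 (hx g⁻¹)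
    rw [inv_inv, mul_smul, mul_smul, inv_smul_eq_iff] at h
    rw [one_smul, h]
  obtain ⟨t, Q, hS⟩ := BenderSplit.exists_setup_of_min BenderSplit.splitMin hH hcore hcomm
  refine ⟨t, Q, ?_⟩
  have h := setup_transfer hS (ofQuotientStabilizer G a)
    ⟨injective_ofQuotientStabilizer G a, fun b => by
      obtain ⟨g, hg⟩ := exists_smul_eq G a b
      exact ⟨(g : G ⧸ stabilizer G a), hg⟩⟩ (ofQuotientStabilizer_smul G a)
  rwa [ofQuotientStabilizer_mk, one_smul] at h

variable {G : Type u} {Ω : Type u} [Group G] [MulAction G Ω]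

omit [MulAction G Ω] in
theorem lineGroup_commute {W : Ω → Subgroup G} {x g : G} (hg : g ∈ lineGroup W x) : Commute x g := by
  have hle : lineGroup W x ≤ Subgroup.centralizer {x} :=
    (Subgroup.closure_le _).2 fun f hf => Subgroup.mem_centralizer_singleton_iff.2 hf.2.symm.eq
  exact (Subgroup.mem_centralizer_singleton_iff.1 (hle hg)).symm

/-- The points fixed by `x` as a space for the group of the line. -/
def lineSub (W : Ω → Subgroup G) (x : G) : SubMulAction (lineGroup W x) Ω where
  carrier := {b | x • b = b}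
  smul_mem' g b hb := by
    change x • (g : G) • b = (g : G) • b
    rw [smul_smul, (lineGroup_commute g.2).eq, mul_smul, hb]

/-- The line of `x`. -/
abbrev LinePt (W : Ω → Subgroup G) (x : G) : Type u := ↥(lineSub W x)

/-- The group induced on the line of `x`. -/
abbrev LineImage (W : Ω → Subgroup G) (x : G) : Subgroup (Equiv.Perm (LinePt W x)) :=
  (toPermHom (lineGroup W x) (LinePt W x)).range

/-- The projection. -/
def proj (W : Ω → Subgroup G) (x : G) : lineGroup W x →* LineImage W x :=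
  (toPermHom (lineGroup W x) (LinePt W x)).rangeRestrict

theorem proj_surjective (W : Ω → Subgroup G) (x : G) : Function.Surjective (proj W x) :=
  MonoidHom.rangeRestrict_surjective _

/-- The members at `b` commuting with `x`, seen on the line. -/
def lineW (W : Ω → Subgroup G) (x : G) (b : LinePt W x) : Subgroup (LineImage W x) :=
  ((centredAt W x (b : Ω)).subgroupOf (lineGroup W x)).map (proj W x)

variable {W : Ω → Subgroup G} {x : G}

instance faithful_lineImage : FaithfulSMul (LineImage W x) (LinePt W x) :=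
  ⟨fun h => Subtype.ext (Equiv.ext h)⟩

theorem coe_proj_smul (g : lineGroup W x) (b : LinePt W x) :
    ((proj W x g • b : LinePt W x) : Ω) = (g : G) • (b : Ω) := rfl

theorem proj_fix_iff (g : lineGroup W x) (b : LinePt W x) :
    proj W x g • b = b ↔ (g : G) • (b : Ω) = b :=
  ⟨fun h => (coe_proj_smul g b).symm.trans (congrArg Subtype.val h), fun h => Subtype.ext h⟩

theorem proj_eq_iff (g g' : lineGroup W x) :
    proj W x g = proj W x g' ↔ ∀ c : Ω, x • c = c → (g : G) • c = (g' : G) • c := by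
  refine ⟨fun h c hc => ?_, fun h => eq_of_smul_eq_smul (α := LinePt W x) fun b => Subtype.ext (h b b.2)⟩
  have h1 := coe_proj_smul g ⟨c, hc⟩
  rw [h] at h1
  exact h1.symm

theorem proj_eq_one_iff (g : lineGroup W x) :
    proj W x g = 1 ↔ ∀ c : Ω, x • c = c → (g : G) • c = c := by
  rw [← map_one (proj W x), proj_eq_iff]
  simp only [OneMemClass.coe_one, one_smul]

omit [MulAction G Ω] in
theorem centredAt_le (b : Ω) : centredAt W x b ≤ lineGroup W x := by
  intro r hr
  by_cases h1 : r = 1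
  · rw [h1]; exact one_mem _
  · exact Subgroup.subset_closure ⟨⟨h1, b, hr.1⟩,
      ((Subgroup.mem_centralizer_singleton_iff).1 hr.2).symm⟩

omit [MulAction G Ω] in
theorem mem_centredAt {r : G} {b : Ω} : r ∈ centredAt W x b ↔ r ∈ W b ∧ Commute x r :=
  and_congr_right fun _ =>
    ⟨fun h => (Subgroup.mem_centralizer_singleton_iff.1 h).symm,
      fun h => Subgroup.mem_centralizer_singleton_iff.2 h.eq.symm⟩

theorem mem_lineW {b : LinePt W x} {γ : LineImage W x} :
    γ ∈ lineW W x b ↔ ∃ r : lineGroup W x, (r : G) ∈ centredAt W x (b : Ω) ∧ proj W x r = γ :=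
  Iff.rfl

theorem conj_centredAt (h : TISetting W) {g r : G} {b : Ω} (hg : Commute x g)
    (hr : r ∈ centredAt W x b) : g * r * g⁻¹ ∈ centredAt W x (g • b) := by
  rw [mem_centredAt] at hr ⊢
  exact ⟨h.conj g b r hr.1, (hg.mul_right hr.2).mul_right hg.inv_right⟩

theorem exists_ne_point (hx : IsBad Ω x) (b : Ω) : ∃ c : Ω, x • c = c ∧ c ≠ b := by
  obtain ⟨-, p, q, hpq, hp, hq⟩ := hx
  by_cases h : p = b
  · exact ⟨q, hq, fun e => hpq (h.trans e.symm)⟩
  · exact ⟨p, hp, h⟩

/-- Members commuting with `x` are seen on the line. -/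
theorem eq_one_of_proj (h : TISetting W) (hx : IsBad Ω x) {b : Ω} {r : lineGroup W x}
    (hr : (r : G) ∈ centredAt W x b) (he : proj W x r = 1) : r = 1 := by
  refine Subtype.ext (by_contra fun h1 => ?_)
  obtain ⟨c, hc, hne⟩ := exists_ne_point hx b
  exact hne (h.unique b r (mem_centredAt.1 hr).1 h1 c ((proj_eq_one_iff r).1 he c hc))

variable [Finite G]

theorem lineSetting (h : TISetting W) (hx : IsBad Ω x) : TISetting (lineW W x) where
  sq b γ hγ := by
    obtain ⟨r, hr, rfl⟩ := mem_lineW.1 hγ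
    rw [← map_mul, show r * r = 1 from Subtype.ext (h.sq _ _ (mem_centredAt.1 hr).1), map_one]
  fix b γ hγ := by
    obtain ⟨r, hr, rfl⟩ := mem_lineW.1 hγ
    exact (proj_fix_iff r b).2 (h.fix _ (mem_centredAt.1 hr).1)
  unique b γ hγ h1 c hc := by
    obtain ⟨r, hr, rfl⟩ := mem_lineW.1 hγ
    exact Subtype.ext (h.unique _ _ (mem_centredAt.1 hr).1
      (fun e => h1 (by rw [show r = 1 from Subtype.ext e, map_one])) _ ((proj_fix_iff r c).1 hc))
  conj γ b δ hδ := by
    obtain ⟨g, rfl⟩ := proj_surjective W x γ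
    obtain ⟨r, hr, rfl⟩ := mem_lineW.1 hδ
    refine mem_lineW.2 ⟨g * r * g⁻¹, ?_, by rw [map_mul, map_mul, map_inv]⟩
    rw [coe_proj_smul, Subgroup.coe_mul, Subgroup.coe_mul, Subgroup.coe_inv]
    exact conj_centredAt h (lineGroup_commute g.2) hr
  ne_bot b := by
    intro hbot
    obtain ⟨d, hd, hdc⟩ := OnePoint.exists_dat_commute h.covers hx.1 b.2
    have hdm : d ∈ centredAt W x (b : Ω) := mem_centredAt.2 ⟨h.mem_of_fixed hd.1 hd.2, hdc⟩
    have hmem : proj W x ⟨d, centredAt_le _ hdm⟩ ∈ lineW W x b := mem_lineW.2 ⟨_, hdm, rfl⟩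
    rw [hbot, Subgroup.mem_bot] at hmem
    exact hd.1.1 (congrArg Subtype.val (eq_one_of_proj h hx hdm hmem))

omit [Finite G] in
theorem line_gen (h : TISetting W) : Subgroup.closure (members (lineW W x)) = ⊤ := by
  refine eq_top_iff.2 fun γ hγ => ?_
  clear hγ
  obtain ⟨⟨g, hg⟩, rfl⟩ := proj_surjective W x γ
  induction hg using Subgroup.closure_induction with
  | mem f hf =>
    by_cases h1 : proj W x ⟨f, Subgroup.subset_closure hf⟩ = 1
    · rw [h1]; exact one_mem _
    obtain ⟨c, hfc⟩ := h.onePoint.exists_fixed f hf.1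
    exact Subgroup.subset_closure ⟨h1, ⟨c, h.onePoint.centred_fixed hf hfc⟩,
      mem_lineW.2 ⟨_, mem_centredAt.2 ⟨h.mem_of_fixed hf.1 hfc, hf.2⟩, rfl⟩⟩
  | one => rw [show (⟨1, _⟩ : lineGroup W x) = 1 from rfl, map_one]; exact one_mem _
  | mul p q hp hq ihp ihq =>
    rw [show (⟨p * q, _⟩ : lineGroup W x) = ⟨p, hp⟩ * ⟨q, hq⟩ from rfl, map_mul]
    exact mul_mem ihp ihq
  | inv p hp ihp =>
    rw [show (⟨p⁻¹, _⟩ : lineGroup W x) = ⟨p, hp⟩⁻¹ from rfl, map_inv]
    exact inv_mem ihp

variable [FaithfulSMul G Ω]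

theorem card_lineImage_lt (h : TISetting W) (hx : IsBad Ω x) :
    Nat.card (LineImage W x) < Nat.card G := by
  refine lt_of_le_of_lt (Nat.card_le_card_of_surjective _ (proj_surjective W x)) ?_
  refine lt_of_le_of_ne (Subgroup.card_le_card_group _) fun e => ?_
  have htop := Subgroup.eq_top_of_card_eq _ e
  have hxne : x ≠ 1 := fun e1 => by
    have h2 := hx.1
    rw [e1, orderOf_one] at h2
    exact absurd h2 (by norm_num)
  refine hxne (eq_of_smul_eq_smul (α := Ω) fun b => ?_)
  obtain ⟨d, hd⟩ := OnePoint.dat_nonempty h.covers b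
  rw [one_smul]
  exact h.onePoint.fix_of_commute hd.1 hd.2 (lineGroup_commute (htop ▸ Subgroup.mem_top d)).symm

variable [Finite Ω]

/-- The rank-one set-up on the line. -/
theorem exists_line_setup (h : TIMin G Ω W) (hx : IsBad Ω x) {a : LinePt W x}
    (h4 : 4 ≤ Nat.card (centredAt W x (a : Ω))) :
    Subgroup.closure {γ : LineImage W x | γ * γ = 1} = ⊤ ∧
      (∃ p q : LineImage W x, p ≠ 1 ∧ q ≠ 1 ∧ p ≠ q ∧ p * p = 1 ∧ q * q = 1 ∧ p * q = q * p) ∧
      ∃ (t : LineImage W x) (Q : Subgroup (LineImage W x)),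
        Cfsg.IsRankOneSetup (LineImage W x) (LinePt W x) a t Q := by
  classical
  haveI : Finite (LinePt W x) := Subtype.finite
  haveI : Nontrivial (LinePt W x) := by
    obtain ⟨c, hc, hne⟩ := exists_ne_point hx a
    exact ⟨⟨⟨c, hc⟩, a, fun e => hne (congrArg Subtype.val e)⟩⟩
  have hT := lineSetting h.toTISetting hx
  have hgen := line_gen h.toTISetting (x := x)
  have hno : NoBad (LineImage W x) (LinePt W x) :=
    h.below _ _ _ (card_lineImage_lt h.toTISetting hx) hT hgen
  have hclos : Subgroup.closure {γ : LineImage W x | γ * γ = 1} = ⊤ := by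
    refine top_le_iff.1 (hgen ▸ Subgroup.closure_mono ?_)
    rintro γ ⟨-, b, hb⟩
    exact hT.sq b γ hb
  haveI : IsPretransitive (LineImage W x) (LinePt W x) :=
    ⟨fun p q => hT.onePoint.exists_move hT.covers p q⟩
  haveI := Fintype.ofFinite (centredAt W x (a : Ω))
  rw [Nat.card_eq_fintype_card] at h4
  obtain ⟨p, hp⟩ := Fintype.exists_ne_of_one_lt_card (by omega) (1 : centredAt W x (a : Ω))
  obtain ⟨q, hq, hqp⟩ : ∃ q : centredAt W x (a : Ω), q ≠ 1 ∧ q ≠ p := by
    by_contra hall
    push Not at hall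
    have h3 : Fintype.card (centredAt W x (a : Ω)) ≤ ({1, p} : Finset _).card :=
      Finset.card_le_card fun v _ => by
        by_cases hv : v = 1
        · simp [hv]
        · simp [hall v hv]
    have h5 := Finset.card_le_two (a := (1 : centredAt W x (a : Ω))) (b := p)
    omega
  let ι : centredAt W x (a : Ω) →* LineImage W x :=
    (proj W x).comp (Subgroup.inclusion (centredAt_le _))
  have hι : Function.Injective ι := (injective_iff_map_eq_one ι).2 fun v hv => by
    have := eq_one_of_proj h.toTISetting hx (b := (a : Ω)) (r := Subgroup.inclusion (centredAt_le _) v) v.2 hv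
    exact Subtype.ext (congrArg Subtype.val this :)
  have hmem : ∀ v, ι v ∈ lineW W x a := fun v => mem_lineW.2 ⟨_, v.2, rfl⟩
  have hone : ∀ v, v ≠ 1 → ι v ≠ 1 := fun v hv e => hv (hι (e.trans (map_one ι).symm))
  have hcm : ι p * ι q = ι q * ι p := (hT.mul_comm_of_mem (hmem p) (hmem q)).eq
  have hne : ι p ≠ ι q := fun e => hqp (hι e.symm)
  refine ⟨hclos, ⟨ι p, ι q, hone p hp, hone q hq, hne, hT.sq a _ (hmem p), hT.sq a _ (hmem q), hcm⟩, ?_⟩
  exact exists_setup_of_noBad hno a
    (orderOf_eq_prime (by rw [pow_two]; exact hT.sq a _ (hmem p)) (hone p hp))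
    (mem_stabilizer_iff.1 (hT.fix a (hmem p)))
    (BenderSplit.orderOf_pair ⟨ι p, ι q, hone p hp, hone q hq, hne, hT.sq a _ (hmem p),
      hT.sq a _ (hmem q), hcm⟩)

end Line

end CfsgLib.LocalEven.TIEndgame
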