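import Cfsg.Agent.Lib.LocalEven.TIEndgame.Torus
import Cfsg.Agent.Lib.LocalEven.TIEndgame.Line.Induced

/-!
# The rank-one set-up of a proper core

If the members in `H` do not generate `G`, the induction gives a rank-one set-up on the group which
`core W H` induces on `pts W H`; its involutions at a point are the members there.
-/

set_option autoImplicit false
set_option linter.style.haveILetI false

open Cfsg

namespace CfsgLib.LocalEven.TIEndgame

open MulAction CfsgLib.RankOne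

universe u

section Setting

variable {G Ω : Type u} [Group G] [MulAction G Ω] {W : Ω → Subgroup G} {H : Subgroup G}

namespace TISetting

variable (h : TISetting W)
include h

/-- The members in `H` at a point, seen in the image of the core. -/
def coreW (H : Subgroup G) (c : ↥(h.coreAct H)) : Subgroup ↥(h.CoreImg H) :=
  ((W (c : Ω) ⊓ H).subgroupOf (core W H)).map (h.rho H)

theorem mem_coreW {c : ↥(h.coreAct H)} {γ : ↥(h.CoreImg H)} :
    γ ∈ h.coreW H c ↔ ∃ d : ↥(core W H), (d : G) ∈ W (c : Ω) ⊓ H ∧ h.rho H d = γ :=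
  Iff.rfl

theorem rho_fix_iff {x : ↥(core W H)} {c : ↥(h.coreAct H)} :
    h.rho H x • c = c ↔ (x : G) • (c : Ω) = c :=
  ⟨fun e => (h.rho_smul x c).symm.trans (congrArg Subtype.val e), fun e => Subtype.ext e⟩

/-- Members in `H` are seen on its points. -/
theorem eq_one_of_member {a b c : Ω} (ha : a ∈ pts W H) (hb : b ∈ pts W H) (hab : a ≠ b)
    {d : ↥(core W H)} (hd : (d : G) ∈ W c) (he : h.rho H d = 1) : d = 1 := by
  refine Subtype.ext (by_contra fun h1 => hab ?_)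
  exact (h.unique c d hd h1 a (h.rho_eq_one.1 he a ha)).trans
    (h.unique c d hd h1 b (h.rho_eq_one.1 he b hb)).symm

/-- The image of the core satisfies the setting. -/
theorem coreSetting {a b : Ω} (ha : a ∈ pts W H) (hb : b ∈ pts W H) (hab : a ≠ b) :
    TISetting (h.coreW H) where
  sq c γ hγ := by
    obtain ⟨d, hd, rfl⟩ := h.mem_coreW.1 hγ
    rw [← map_mul, show d * d = 1 from Subtype.ext (h.sq _ _ hd.1), map_one]
  fix c γ hγ := by
    obtain ⟨d, hd, rfl⟩ := h.mem_coreW.1 hγ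
    exact h.rho_fix_iff.2 (h.fix _ hd.1)
  unique c γ hγ h1 e he := by
    obtain ⟨d, hd, rfl⟩ := h.mem_coreW.1 hγ
    exact Subtype.ext (h.unique _ _ hd.1
      (fun e' => h1 (by rw [show d = 1 from Subtype.ext e', map_one])) _ (h.rho_fix_iff.1 he))
  conj γ c δ hδ := by
    obtain ⟨g, rfl⟩ := h.rho_surjective H γ
    obtain ⟨d, hd, rfl⟩ := h.mem_coreW.1 hδ
    refine h.mem_coreW.2 ⟨g * d * g⁻¹, ?_, by rw [map_mul, map_mul, map_inv]⟩
    rw [h.rho_smul, Subgroup.coe_mul, Subgroup.coe_mul, Subgroup.coe_inv]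
    exact ⟨h.conj _ _ _ hd.1,
      H.mul_mem (H.mul_mem (core_le W H g.2) hd.2) (H.inv_mem (core_le W H g.2))⟩
  ne_bot c := by
    obtain ⟨d, hd, hd1⟩ := exists_mem_pts (W := W) (H := H) c.2
    intro hbot
    have hmem : h.rho H ⟨d, mem_core_of_mem hd⟩ ∈ h.coreW H c := h.mem_coreW.2 ⟨_, hd, rfl⟩
    rw [hbot, Subgroup.mem_bot] at hmem
    exact hd1 (congrArg Subtype.val (h.eq_one_of_member ha hb hab (c := (c : Ω)) hd.1 hmem))

/-- The members generate the image of the core. -/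
theorem core_gen : Subgroup.closure (members (h.coreW H)) = ⊤ := by
  refine eq_top_iff.2 fun γ hγ => ?_
  clear hγ
  obtain ⟨⟨g, hg⟩, rfl⟩ := h.rho_surjective H γ
  induction hg using Subgroup.closure_induction with
  | mem f hf =>
    by_cases h1 : h.rho H ⟨f, Subgroup.subset_closure hf⟩ = 1
    · rw [h1]; exact one_mem _
    obtain ⟨⟨hf1, c, hc⟩, hfH⟩ := hf
    have hcp : c ∈ pts W H := Subgroup.ne_bot_iff_exists_ne_one.2
      ⟨⟨f, hc, hfH⟩, fun e => hf1 (congrArg Subtype.val e)⟩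
    exact Subgroup.subset_closure ⟨h1, ⟨c, hcp⟩, h.mem_coreW.2 ⟨_, ⟨hc, hfH⟩, rfl⟩⟩
  | one => rw [show (⟨1, _⟩ : ↥(core W H)) = 1 from rfl, map_one]; exact one_mem _
  | mul p q hp hq ihp ihq =>
    rw [show (⟨p * q, _⟩ : ↥(core W H)) = ⟨p, hp⟩ * ⟨q, hq⟩ from rfl, map_mul]
    exact mul_mem ihp ihq
  | inv p hp ihp =>
    rw [show (⟨p⁻¹, _⟩ : ↥(core W H)) = ⟨p, hp⟩⁻¹ from rfl, map_inv]
    exact inv_mem ihp

variable [Finite G] [Finite Ω]

/-- In a rank-one set-up of the image, the involutions at `a` are the members at `a` in `H`. -/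
theorem coreInvol_mem {a b : Ω} (ha : a ∈ pts W H) (hb : b ∈ pts W H) (hab : a ≠ b)
    {t : ↥(h.CoreImg H)} {Q : Subgroup ↥(h.CoreImg H)}
    (hS : IsRankOneSetup ↥(h.CoreImg H) ↥(h.coreAct H) ⟨a, ha⟩ t Q) {γ : ↥(h.CoreImg H)}
    (hγ : γ • (⟨a, ha⟩ : ↥(h.coreAct H)) = ⟨a, ha⟩) (hγ2 : γ * γ = 1) :
    ∃ d : ↥(core W H), (d : G) ∈ W a ⊓ H ∧ h.rho H d = γ := by
  refine h.mem_coreW (c := (⟨a, ha⟩ : ↥(h.coreAct H))).1 ?_
  by_cases h1 : γ = 1
  · rw [h1]; exact one_mem _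
  have hT := h.coreSetting ha hb hab
  obtain ⟨⟨r, hr⟩, hr1⟩ :=
    Subgroup.ne_bot_iff_exists_ne_one.1 (hT.ne_bot (⟨a, ha⟩ : ↥(h.coreAct H)))
  have hr1' : r ≠ 1 := fun e => hr1 (Subtype.ext e)
  obtain ⟨k, hk, hks⟩ := exists_conj_inverted hS (s := r) (s' := γ)
    ⟨hT.fix _ hr, hr1', hT.sq _ r hr⟩ ⟨hγ, h1, hγ2⟩
  have hka : k⁻¹ • (⟨a, ha⟩ : ↥(h.coreAct H)) = ⟨a, ha⟩ :=
    inv_smul_eq_iff.2 ((mem_two hS).1 hk.1).1.symm
  have h3 := hT.conj k⁻¹ _ r hr
  rwa [hka, inv_inv, hks] at h3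

/-- The members at `a` in `H` are the elements of order at most two at `a` in the image. -/
theorem coreInvol_iff {a b : Ω} (ha : a ∈ pts W H) (hb : b ∈ pts W H) (hab : a ≠ b)
    {t : ↥(h.CoreImg H)} {Q : Subgroup ↥(h.CoreImg H)}
    (hS : IsRankOneSetup ↥(h.CoreImg H) ↥(h.coreAct H) ⟨a, ha⟩ t Q) {γ : ↥(h.CoreImg H)} :
    γ ∈ stabilizer ↥(h.CoreImg H) (⟨a, ha⟩ : ↥(h.coreAct H)) ∧ γ * γ = 1 ↔
      ∃ d : ↥(core W H), (d : G) ∈ W a ⊓ H ∧ h.rho H d = γ := by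
  refine ⟨fun hγ => h.coreInvol_mem ha hb hab hS hγ.1 hγ.2, fun hd => ?_⟩
  have hT := h.coreSetting ha hb hab
  have hmem : γ ∈ h.coreW H (⟨a, ha⟩ : ↥(h.coreAct H)) := h.mem_coreW.2 hd
  exact ⟨hT.fix _ hmem, hT.sq _ _ hmem⟩

end TISetting

end Setting

variable {G : Type u} {Ω : Type u} [Group G] [Finite G] [Finite Ω] [MulAction G Ω] [FaithfulSMul G Ω]
  {W : Ω → Subgroup G}

/-- The rank-one set-up on the image of a proper core. -/
theorem TIMin.exists_core_setup (h : TIMin G Ω W) {H : Subgroup G} (hne : core W H ≠ ⊤) {a b : Ω}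
    (ha : a ∈ pts W H) (hb : b ∈ pts W H) (hab : b ≠ a) (four : 4 ≤ Nat.card ↥(W a ⊓ H)) :
    Subgroup.closure {γ : ↥(h.toTISetting.CoreImg H) | γ * γ = 1} = ⊤ ∧
      (∃ p q : ↥(h.toTISetting.CoreImg H),
        p ≠ 1 ∧ q ≠ 1 ∧ p ≠ q ∧ p * p = 1 ∧ q * q = 1 ∧ p * q = q * p) ∧
      ∃ (t : ↥(h.toTISetting.CoreImg H)) (Q : Subgroup ↥(h.toTISetting.CoreImg H)),
        IsRankOneSetup ↥(h.toTISetting.CoreImg H) ↥(h.toTISetting.coreAct H) ⟨a, ha⟩ t Q := by
  classical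
  have hT : TISetting W := h.toTISetting
  haveI : Finite ↥(hT.coreAct H) := Subtype.finite
  haveI : Nontrivial ↥(hT.coreAct H) :=
    ⟨⟨⟨b, hb⟩, ⟨a, ha⟩, fun e => hab (congrArg Subtype.val e)⟩⟩
  haveI : FaithfulSMul ↥(hT.CoreImg H) ↥(hT.coreAct H) := ⟨fun e => Subtype.ext (Equiv.ext e)⟩
  have hS' := hT.coreSetting ha hb hab.symm
  have hgen := hT.core_gen (H := H)
  have hlt : Nat.card ↥(hT.CoreImg H) < Nat.card G := by
    refine lt_of_le_of_lt (Nat.card_le_card_of_surjective _ (hT.rho_surjective H)) ?_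
    refine lt_of_le_of_ne (Subgroup.card_le_card_group _) fun e => hne ?_
    exact Subgroup.eq_top_of_card_eq _ e
  have hno : NoBad ↥(hT.CoreImg H) ↥(hT.coreAct H) := h.below _ _ _ hlt hS' hgen
  have hclos : Subgroup.closure {γ : ↥(hT.CoreImg H) | γ * γ = 1} = ⊤ := by
    refine top_le_iff.1 (hgen ▸ Subgroup.closure_mono ?_)
    rintro γ ⟨-, c, hc⟩
    exact hS'.sq c γ hc
  haveI : IsPretransitive ↥(hT.CoreImg H) ↥(hT.coreAct H) :=
    ⟨fun p q => hS'.onePoint.exists_move hS'.covers p q⟩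
  haveI := Fintype.ofFinite ↥(W a ⊓ H)
  rw [Nat.card_eq_fintype_card] at four
  obtain ⟨p, hp⟩ := Fintype.exists_ne_of_one_lt_card (by omega) (1 : ↥(W a ⊓ H))
  obtain ⟨q, hq, hqp⟩ : ∃ q : ↥(W a ⊓ H), q ≠ 1 ∧ q ≠ p := by
    by_contra hall
    push Not at hall
    have h3 : Fintype.card ↥(W a ⊓ H) ≤ ({1, p} : Finset _).card :=
      Finset.card_le_card fun v _ => by
        by_cases hv : v = 1
        · simp [hv]
        · simp [hall v hv]
    have h5 := Finset.card_le_two (a := (1 : ↥(W a ⊓ H))) (b := p)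
    omega
  let ι : ↥(W a ⊓ H) →* ↥(hT.CoreImg H) :=
    (hT.rho H).comp (Subgroup.inclusion fun _ hd => mem_core_of_mem hd)
  have hι : Function.Injective ι := (injective_iff_map_eq_one ι).2 fun v hv => by
    have := hT.eq_one_of_member ha hb hab.symm (c := a)
      (d := Subgroup.inclusion (fun _ hd => mem_core_of_mem hd) v) v.2.1 hv
    exact Subtype.ext (congrArg Subtype.val this :)
  have hmem : ∀ v, ι v ∈ hT.coreW H ⟨a, ha⟩ := fun v => hT.mem_coreW.2 ⟨_, v.2, rfl⟩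
  have hone : ∀ v, v ≠ 1 → ι v ≠ 1 := fun v hv e => hv (hι (e.trans (map_one ι).symm))
  have hcm : ι p * ι q = ι q * ι p := (hS'.mul_comm_of_mem (hmem p) (hmem q)).eq
  have hpq : ι p ≠ ι q := fun e => hqp (hι e.symm)
  refine ⟨hclos, ⟨ι p, ι q, hone p hp, hone q hq, hpq, hS'.sq _ _ (hmem p), hS'.sq _ _ (hmem q), hcm⟩, ?_⟩
  exact Line.exists_setup_of_noBad hno _
    (orderOf_eq_prime (by rw [pow_two]; exact hS'.sq _ _ (hmem p)) (hone p hp))
    (mem_stabilizer_iff.1 (hS'.fix _ (hmem p)))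
    (BenderSplit.orderOf_pair ⟨ι p, ι q, hone p hp, hone q hq, hpq, hS'.sq _ _ (hmem p),
      hS'.sq _ _ (hmem q), hcm⟩)

end CfsgLib.LocalEven.TIEndgame
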