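import Cfsg.Agent.Lib.LocalEven.TIEndgame.Line.Split
import Cfsg.Agent.Lib.LocalEven.TIEndgame.KernelTransfer
import Cfsg.Agent.Lib.LocalEven.TIEndgame.InvariantForm
import Cfsg.Agent.Lib.LocalEven.TIEndgame.Rotation

/-!
# The kernel of a core on its points has odd order

Modulo the members at `a` and the squares of the kernel the translations have exponent two: the
squaring map is constant on `q ^ 2` translations, and a form invariant under scalars and a rotation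
on `q ^ 3` translations is trivial.  Then transfer removes the kernel.
-/

set_option autoImplicit false
set_option linter.style.haveILetI false

open Cfsg
open scoped commutatorElement

namespace CfsgLib.LocalEven.TIEndgame

open MulAction CfsgLib.RankOne

universe u v w

namespace KernelOdd

/-- Squares are constant off a kernel and the commutator map is biadditive: so squares vanish. -/
theorem sq_eq_one_of_const {K : Type*} [Group K] {u v x : K} {e : K}
    (hu : u * u = e) (hv : v * v = e) (hx : x * x = e) (huv : u * v * (u * v) = e)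
    (hux : u * x * (u * x) = e) (hvx : v * x * (v * x) = e)
    (huvx : u * v * x * (u * v * x) = e) (hec : ∀ g : K, Commute e g) (hee : e * e = 1) : e = 1 := by
  have hcom : ∀ a c : K, a * a = e → c * c = e → a * c * (a * c) = e → c * a = a * c * e := by
    intro a c ha hc hac
    have hai : a⁻¹ = a * e := by
      rw [inv_eq_iff_mul_eq_one, ← mul_assoc, ha, hee]
    have hci : c⁻¹ = c * e := by
      rw [inv_eq_iff_mul_eq_one, ← mul_assoc, hc, hee]
    calc c * a = a⁻¹ * (a * c * (a * c)) * c⁻¹ := by group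
      _ = a * (e * e) * (c * e) := by rw [hac, hai, hci]; group
      _ = a * c * e := by rw [hee, mul_one, mul_assoc]
  have h1 := hcom u x hu hx hux
  have h2 := hcom v x hv hx hvx
  have h3 := hcom (u * v) x huv hx huvx
  have h4 : u * v * x * e = u * v * x := by
    calc u * v * x * e = x * (u * v) := h3.symm
      _ = x * u * v := (mul_assoc _ _ _).symm
      _ = u * x * e * v := by rw [h1]
      _ = u * x * (e * v) := mul_assoc _ _ _
      _ = u * x * (v * e) := by rw [(hec v).eq]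
      _ = u * (x * v) * e := by group
      _ = u * (v * x * e) * e := by rw [h2]
      _ = u * v * x * (e * e) := by group
      _ = u * v * x := by rw [hee, mul_one]
  exact mul_eq_left.1 h4

/-- A map onto a point stabiliser together with a map to `K` which is elementary and central over
the involutions of the stabiliser. -/
structure Cover {X : Type*} [Group X] {Δ : Type*} [MulAction X Δ] (a : Δ) (Z : Subgroup X)
    {S : Type*} [Group S] {K : Type*} [Group K] (ρ : S →* X) (π' : S →* K) : Prop where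
  fix : ∀ x, ρ x ∈ stabilizer X a
  surj : ∀ β ∈ stabilizer X a, ∃ x, ρ x = β
  overZ : ∀ {x}, ρ x ∈ Z → (∀ y, Commute (π' x) y) ∧ π' x * π' x = 1

variable {X : Type*} [Group X] [Finite X] {Δ : Type*} [MulAction X Δ] [FaithfulSMul X Δ] {a : Δ}
  {t : X} {Qb Z Kt : Subgroup X} {S : Type*} [Group S] {K : Type*} [Group K] {ρ : S →* X}
  {π' : S →* K}

section

variable (C : Cover a Z ρ π') (hF : Line.SplitFacts Qb Z)
include C hF

omit [Finite X] [FaithfulSMul X Δ] in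
theorem sq_central {x : S} (hx : x ∈ Qb.comap ρ) :
    (∀ y, Commute (π' (x * x)) y) ∧ π' (x * x) * π' (x * x) = 1 :=
  C.overZ (by rw [map_mul]; exact hF.sq_mem _ hx)

omit [Finite X] [FaithfulSMul X Δ] in
theorem comm_central {x y : S} (hx : x ∈ Qb.comap ρ) (hy : y ∈ Qb.comap ρ) (g : K) :
    Commute ⁅π' x, π' y⁆ g := by
  rw [← map_commutatorElement]
  exact (C.overZ (by rw [map_commutatorElement]; exact hF.comm_mem _ hx _ hy)).1 g

omit [Finite X] [FaithfulSMul X Δ] in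
theorem sq_conj (g : S) {x : S} (hx : x ∈ Qb.comap ρ) :
    π' (g * x * g⁻¹) * π' (g * x * g⁻¹) = π' x * π' x := by
  calc π' (g * x * g⁻¹) * π' (g * x * g⁻¹) = π' g * π' (x * x) * (π' g)⁻¹ := by
        simp only [map_mul, map_inv]; group
    _ = π' (x * x) * π' g * (π' g)⁻¹ := by rw [((sq_central C hF hx).1 (π' g)).eq]
    _ = π' x * π' x := by rw [mul_inv_cancel_right, map_mul]

omit [Finite X] [FaithfulSMul X Δ] hF in
theorem conj_mem (hS : IsRankOneSetup X Δ a t Qb) (g : S) {x : S} (hx : x ∈ Qb.comap ρ) :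
    g * x * g⁻¹ ∈ Qb.comap ρ := by
  show ρ (g * x * g⁻¹) ∈ Qb
  rw [map_mul, map_mul, map_inv]
  exact hS.conj_mem _ (C.fix g) _ hx

/-- On `q ^ 2` translations squares vanish. -/
theorem sq_square (hS : IsRankOneSetup X Δ a t Qb) (A : Small.Data a t Qb Z Kt)
    (hcard : Nat.card Qb = Nat.card Z ^ 2) : ∀ x ∈ Qb.comap ρ, π' x * π' x = 1 := by
  classical
  set P0 := Qb.comap ρ
  have hoverZ : ∀ {x : S}, ρ x ∈ Z → (∀ y, Commute (π' x) y) ∧ π' x * π' x = 1 := C.overZ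
  have hsqC : ∀ x ∈ P0, (∀ y, Commute (π' (x * x)) y) ∧ π' (x * x) * π' (x * x) = 1 :=
    fun x hx => sq_central C hF hx
  have hsqinv : ∀ (g : S), ∀ x ∈ P0, π' (g * x * g⁻¹) * π' (g * x * g⁻¹) = π' x * π' x :=
    fun g x hx => sq_conj C hF g hx
  obtain ⟨r, -, hr, hZr⟩ := hF.square_log hcard
  have h8 : 8 ≤ Nat.card Z := by
    rw [hZr]
    calc 8 = 2 ^ 3 := rfl
      _ ≤ 2 ^ r := Nat.pow_le_pow_right two_pos hr
  -- constancy
  have hconst : ∀ x ∈ P0, ρ x ∉ Z → ∀ y ∈ P0, ρ y ∉ Z → π' y * π' y = π' x * π' x := by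
    intro x hx hxZ y hy hyZ
    obtain ⟨k, hk, w, hw, e⟩ := A.exists_conj_coset hcard hx hxZ hy hyZ
    obtain ⟨g, hg⟩ := C.surj k (A.le_two hk).1
    set y' := (g * x * g⁻¹)⁻¹ * y with hy'
    have hy'Z : ρ y' ∈ Z := by
      rw [hy', map_mul, map_inv, map_mul, map_mul, map_inv, hg, e, inv_mul_cancel_left]
      exact hw
    calc π' y * π' y = π' (g * x * g⁻¹) * π' y' * (π' (g * x * g⁻¹) * π' y') := by
          rw [← map_mul π' (g * x * g⁻¹), hy', mul_inv_cancel_left]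
      _ = π' (g * x * g⁻¹) * π' (g * x * g⁻¹) * (π' y' * π' y') :=
          Commute.mul_mul_mul_comm ((hoverZ hy'Z).1 _) _ _
      _ = π' x * π' x := by rw [(hoverZ hy'Z).2, mul_one, hsqinv g x hx]
  -- three independent translations
  have hcardQZ : 8 * Nat.card Z ≤ Nat.card Qb := by
    rw [hcard, pow_two]
    exact Nat.mul_le_mul_right _ h8
  let co : X → Set X := fun β => (fun w => β * w) '' (Z : Set _)
  have hco : ∀ β, (co β).ncard = Nat.card Z := fun β => by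
    rw [Set.ncard_image_of_injective _ (mul_right_injective β)]
    exact (Nat.card_coe_set_eq _).symm
  have hmem : ∀ β γ, β⁻¹ * γ ∈ Z → γ ∈ co β := fun β γ hb' =>
    ⟨β⁻¹ * γ, hb', mul_inv_cancel_left β γ⟩
  have hQcard : (Qb : Set X).ncard = Nat.card Qb := (Nat.card_coe_set_eq _).symm
  obtain ⟨β₁, hβ₁, hβ₁'⟩ := Set.exists_mem_notMem_of_ncard_lt_ncard
    (s := co 1) (t := (Qb : Set _)) (by rw [hco, hQcard]; omega)
  obtain ⟨β₂, hβ₂, hβ₂'⟩ := Set.exists_mem_notMem_of_ncard_lt_ncard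
    (s := co 1 ∪ co β₁) (t := (Qb : Set _)) (by
      refine lt_of_le_of_lt (Set.ncard_union_le _ _) ?_
      rw [hco, hco, hQcard]; omega)
  simp only [Set.mem_union, not_or] at hβ₂'
  obtain ⟨β₃, hβ₃, hβ₃'⟩ := Set.exists_mem_notMem_of_ncard_lt_ncard
    (s := co 1 ∪ co β₁ ∪ co β₂ ∪ co (β₁ * β₂)) (t := (Qb : Set _)) (by
      have h1 := Set.ncard_union_le (co 1 ∪ co β₁ ∪ co β₂) (co (β₁ * β₂))
      have h2' := Set.ncard_union_le (co 1 ∪ co β₁) (co β₂)
      have h3 := Set.ncard_union_le (co 1) (co β₁)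
      rw [hco] at h1 h2' h3
      rw [hco] at h3
      rw [hQcard]; omega)
  simp only [Set.mem_union, not_or] at hβ₃'
  obtain ⟨⟨⟨hb30, hb31⟩, hb32⟩, hb312⟩ := hβ₃'
  obtain ⟨hb20, hb21⟩ := hβ₂'
  have hlow : ∀ {β γ}, β ∈ Qb → γ ∉ co β → β * γ ∉ Z := fun {β γ} hβ hγ hmem' =>
    hγ (hmem β γ (by
      have : β⁻¹ * γ = (β * β)⁻¹ * (β * γ) := by group
      rw [this]
      exact mul_mem (inv_mem (hF.sq_mem β hβ)) hmem'))
  have hone : ∀ {β}, β ∉ co 1 → β ∉ Z := fun {β} hβ hZ =>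
    hβ (hmem 1 β (by rwa [inv_one, one_mul]))
  obtain ⟨x₁, e₁⟩ := C.surj β₁ (hS.le hβ₁)
  obtain ⟨x₂, e₂⟩ := C.surj β₂ (hS.le hβ₂)
  obtain ⟨x₃, e₃⟩ := C.surj β₃ (hS.le hβ₃)
  have m₁ : x₁ ∈ P0 := by show ρ x₁ ∈ Qb; rw [e₁]; exact hβ₁
  have m₂ : x₂ ∈ P0 := by show ρ x₂ ∈ Qb; rw [e₂]; exact hβ₂
  have m₃ : x₃ ∈ P0 := by show ρ x₃ ∈ Qb; rw [e₃]; exact hβ₃
  have n₁ : ρ x₁ ∉ Z := by rw [e₁]; exact hone hβ₁'
  set e := π' x₁ * π' x₁ with he
  have hc := hconst x₁ m₁ n₁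
  have he1 : e = 1 := by
    have hsC := hsqC x₁ m₁
    rw [map_mul, ← he] at hsC
    refine KernelOdd.sq_eq_one_of_const (u := π' x₁) (v := π' x₂) (x := π' x₃) rfl
      (hc x₂ m₂ (by rw [e₂]; exact hone hb20)) (hc x₃ m₃ (by rw [e₃]; exact hone hb30)) ?_ ?_ ?_ ?_
      hsC.1 hsC.2
    · rw [← map_mul]
      exact hc _ (mul_mem m₁ m₂) (by rw [map_mul, e₁, e₂]; exact hlow hβ₁ hb21)
    · rw [← map_mul]
      exact hc _ (mul_mem m₁ m₃) (by rw [map_mul, e₁, e₃]; exact hlow hβ₁ hb31)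
    · rw [← map_mul]
      exact hc _ (mul_mem m₂ m₃) (by rw [map_mul, e₂, e₃]; exact hlow hβ₂ hb32)
    · rw [← map_mul, ← map_mul]
      exact hc _ (mul_mem (mul_mem m₁ m₂) m₃)
        (by rw [map_mul, map_mul, e₁, e₂, e₃]; exact hlow (mul_mem hβ₁ hβ₂) hb312)
  intro x hx
  by_cases hxZ : ρ x ∈ Z
  · exact (hoverZ hxZ).2
  · rw [hc x hx hxZ]; exact he1

/-- On `q ^ 3` translations squares vanish. -/
theorem sq_cube (hS : IsRankOneSetup X Δ a t Qb) (A : Small.Data a t Qb Z Kt)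
    (h2 : ∃ x y : X, x ≠ 1 ∧ y ≠ 1 ∧ x ≠ y ∧ x * x = 1 ∧ y * y = 1 ∧ x * y = y * x)
    (hW : kernelW X a t ≠ ⊥) : ∀ x ∈ Qb.comap ρ, π' x * π' x = 1 := by
  classical
  set P0 := Qb.comap ρ
  have hoverZ : ∀ {x : S}, ρ x ∈ Z → (∀ y, Commute (π' x) y) ∧ π' x * π' x = 1 := C.overZ
  have hsqC : ∀ x ∈ P0, (∀ y, Commute (π' (x * x)) y) ∧ π' (x * x) * π' (x * x) = 1 :=
    fun x hx => sq_central C hF hx
  have hcommC : ∀ x ∈ P0, ∀ y ∈ P0, ∀ g, Commute ⁅π' x, π' y⁆ g :=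
    fun x hx y hy g => comm_central C hF hx hy g
  have hconjQ : ∀ (g : S), ∀ x ∈ P0, g * x * g⁻¹ ∈ P0 := fun g x hx => conj_mem C hS g hx
  have hsqinv : ∀ (g : S), ∀ x ∈ P0, π' (g * x * g⁻¹) * π' (g * x * g⁻¹) = π' x * π' x :=
    fun g x hx => sq_conj C hF g hx
  obtain ⟨F, _, _, _, σ, q, ⟨m, hm2, hqm⟩, ⟨U⟩⟩ := exists_ucoord₀ hS h2 hW
  haveI : Fact (CfsgLib.Classical.IsConjugation σ) := ⟨U.conj⟩
  haveI : Fact (Fintype.card F = q ^ 2 ∧ ∀ x, σ x = x ^ q) := ⟨U.card_field⟩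
  have hπone := RotationTools.π_one U
  have hover : ∀ x ∈ P0, ∀ y ∈ P0, U.π (ρ x) = U.π (ρ y) → ρ (x⁻¹ * y) ∈ Z := by
    intro x hx y hy e
    have hxy : ρ (x⁻¹ * y) ∈ Qb := mul_mem (inv_mem hx) hy
    refine A.mem_Z_of_Q hxy (RotationTools.sq_eq_one_of_π U hxy ?_)
    rw [map_mul, map_inv, U.π_mul _ (inv_mem hx) _ hy, RotationTools.π_inv U hx, e,
      CharTwo.add_self_eq_zero]
  have hlift : ∀ c : F, ∃ x : ↥P0, U.π (ρ x) = c := by
    intro c
    obtain ⟨β, hβ, e⟩ := U.π_surj c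
    obtain ⟨x, rfl⟩ := C.surj β (hS.le hβ)
    exact ⟨⟨x, hβ⟩, e⟩
  choose L hL using hlift
  have hwell : ∀ x ∈ P0, ∃ w, (∀ y, Commute w y) ∧ w * w = 1 ∧
      π' x = π' (L (U.π (ρ x)) : S) * w := by
    intro x hx
    obtain ⟨h1, h2'⟩ := hoverZ (hover _ (L (U.π (ρ x))).2 x hx (hL _))
    exact ⟨_, h1, h2', by rw [map_mul, map_inv, mul_inv_cancel_left]⟩
  -- the available scalars
  let Λ : Subgroup Fˣ :=
    { carrier := {c | ∃ g : S, ∀ x ∈ P0, U.π (ρ (g * x * g⁻¹)) = (c : F) * U.π (ρ x)}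
      one_mem' := ⟨1, fun x _ => by simp⟩
      mul_mem' := fun {c d} ⟨g, hg⟩ ⟨g', hg'⟩ => ⟨g * g', fun x hx => by
        rw [show g * g' * x * (g * g')⁻¹ = g * (g' * x * g'⁻¹) * g⁻¹ by group,
          hg _ (hconjQ g' x hx), hg' x hx, Units.val_mul, mul_assoc]⟩
      inv_mem' := fun {c} ⟨g, hg⟩ => ⟨g⁻¹, fun x hx => by
        have h1 := hg _ (hconjQ g⁻¹ x hx)
        rw [show g * (g⁻¹ * x * g⁻¹⁻¹) * g⁻¹ = x by group] at h1
        rw [h1, Units.inv_mul_cancel_left]⟩ }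
  have hscal : ∀ l : UnitaryUnique.Fix σ, ∀ hl : (l : F) ≠ 0, Units.mk0 (l : F) hl ∈ Λ := by
    intro l hl
    obtain ⟨l', hl', e⟩ := RotationTools.exists_lift_φ U (l := l)
      fun e => hl (by rw [e]; rfl)
    obtain ⟨k, hk, hkπ, -⟩ := U.scalar l' hl'
    obtain ⟨g, hg⟩ := C.surj k (show k ∈ two X a t from hk.1).1
    refine ⟨g, fun x hx => ?_⟩
    rw [map_mul, map_mul, map_inv, hg, hkπ _ hx, e]
    rfl
  have hε0 : U.ε ≠ 0 := fun e => by
    have h0 := U.ε_norm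
    rw [e, zero_mul] at h0
    exact zero_ne_one h0
  have hrot : Units.mk0 U.ε hε0 ∈ Λ := by
    obtain ⟨w, hw, -, hwπ, -⟩ := U.rotation
    obtain ⟨g, hg⟩ := C.surj w (show w ∈ two X a t from hw).1
    exact ⟨g, fun x hx => by rw [map_mul, map_mul, map_inv, hg, hwπ _ hx]; rfl⟩
  have hσε : σ U.ε ≠ U.ε := fun e => U.ε_ne (by
    have h0 := U.ε_norm
    rw [e] at h0
    have h3 : (U.ε + 1) * (U.ε + 1) = 0 := by
      linear_combination h0 + (U.ε + 1) * (CharTwo.two_eq_zero (R := F))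
    exact CharTwo.add_eq_zero.1 (mul_self_eq_zero.1 h3))
  -- the form
  let V := Multiplicative F
  have hV2 : ∀ v : V, v * v = 1 := fun v => CharTwo.add_self_eq_zero (Multiplicative.toAdd v)
  let ρA : Λ →* MulAut V :=
    { toFun := fun c => AddEquiv.toMultiplicative
        { toFun := fun x => ((c : Fˣ) : F) * x
          invFun := fun x => (((c : Fˣ)⁻¹ : Fˣ) : F) * x
          left_inv := fun x => Units.inv_mul_cancel_left _ x
          right_inv := fun x => Units.mul_inv_cancel_left _ x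
          map_add' := fun x y => mul_add _ x y }
      map_one' := MulEquiv.ext fun v => congrArg Multiplicative.ofAdd (one_mul (Multiplicative.toAdd v))
      map_mul' := fun c d => MulEquiv.ext fun v =>
        congrArg Multiplicative.ofAdd (mul_assoc _ _ (Multiplicative.toAdd v)) }
  have hρA : ∀ (c : Λ) (v : V),
      Multiplicative.toAdd (ρA c v) = ((c : Fˣ) : F) * Multiplicative.toAdd v := fun _ _ => rfl
  let B : V → V → K := fun u v =>
    ⁅π' (L (Multiplicative.toAdd u) : S), π' (L (Multiplicative.toAdd v) : S)⁆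
  have hB : ∀ x ∈ P0, ∀ y ∈ P0, ⁅π' x, π' y⁆ =
      B (Multiplicative.ofAdd (U.π (ρ x))) (Multiplicative.ofAdd (U.π (ρ y))) := by
    intro x hx y hy
    obtain ⟨w, hwc, -, e⟩ := hwell x hx
    obtain ⟨w', hwc', -, e'⟩ := hwell y hy
    rw [e, e']
    show ⁅_ * w, _ * w'⁆ = ⁅π' (L (U.π (ρ x)) : S), π' (L (U.π (ρ y)) : S)⁆
    rw [commutatorElement_def, commutatorElement_def]
    set A' := π' (L (U.π (ρ x)) : S)
    set B' := π' (L (U.π (ρ y)) : S)
    calc A' * w * (B' * w') * (A' * w)⁻¹ * (B' * w')⁻¹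
        = A' * (w * (B' * w')) * w⁻¹ * A'⁻¹ * w'⁻¹ * B'⁻¹ := by group
      _ = A' * B' * w' * A'⁻¹ * w'⁻¹ * B'⁻¹ := by rw [(hwc (B' * w')).eq]; group
      _ = A' * B' * (A'⁻¹ * w') * w'⁻¹ * B'⁻¹ := by rw [← (hwc' A'⁻¹).eq]; group
      _ = A' * B' * A'⁻¹ * B'⁻¹ := by group
  have hl : ∀ u v w : V, B (u * v) w = B u w * B v w := by
    intro u v w
    set x := (L (Multiplicative.toAdd u) : S)
    set y := (L (Multiplicative.toAdd v) : S)
    set z := (L (Multiplicative.toAdd w) : S)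
    have hxy : U.π (ρ (x * y)) = Multiplicative.toAdd (u * v) := by
      rw [map_mul, U.π_mul _ (L _).2 _ (L _).2, hL, hL]; rfl
    have h1 := hB (x * y) (mul_mem (L _).2 (L _).2) z (L _).2
    rw [hxy, hL] at h1
    refine h1.symm.trans ?_
    show ⁅π' (x * y), π' z⁆ = ⁅π' x, π' z⁆ * ⁅π' y, π' z⁆
    have hc : π' x * ⁅π' y, π' z⁆ = ⁅π' y, π' z⁆ * π' x :=
      ((hcommC y (L _).2 z (L _).2) (π' x)).eq.symm
    have hc' := hcommC y (L _).2 z (L _).2 ⁅π' x, π' z⁆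
    rw [map_mul, show ⁅π' x * π' y, π' z⁆ = π' x * ⁅π' y, π' z⁆ * (π' z * (π' x)⁻¹ * (π' z)⁻¹) by
      simp only [commutatorElement_def]; group, hc, ← hc'.eq]
    simp only [commutatorElement_def]; group
  have hswap : ∀ u v : V, B v u = (B u v)⁻¹ := fun u v => (commutatorElement_inv _ _).symm
  have hr : ∀ u v w : V, B u (v * w) = B u v * B u w := fun u v w => by
    rw [hswap (v * w) u, hl, mul_inv_rev, ← hswap w u, ← hswap v u]
    exact (hcommC _ (L _).2 _ (L _).2 _).eq.symm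
  have hinvB : ∀ (c : Λ) (u v : V), B (ρA c u) (ρA c v) = B u v := by
    intro c u v
    obtain ⟨g, hg⟩ := c.2
    set x := (L (Multiplicative.toAdd u) : S)
    set y := (L (Multiplicative.toAdd v) : S)
    have h1 := hB _ (hconjQ g x (L _).2) _ (hconjQ g y (L _).2)
    rw [hg x (L _).2, hg y (L _).2, hL, hL] at h1
    refine h1.symm.trans ?_
    show ⁅π' (g * x * g⁻¹), π' (g * y * g⁻¹)⁆ = ⁅π' x, π' y⁆
    calc ⁅π' (g * x * g⁻¹), π' (g * y * g⁻¹)⁆ = π' g * ⁅π' x, π' y⁆ * (π' g)⁻¹ := by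
          simp only [map_mul, map_inv, commutatorElement_def]; group
      _ = ⁅π' x, π' y⁆ := by
          rw [← (hcommC x (L _).2 y (L _).2 (π' g)).eq, mul_inv_cancel_right]
  have hirr : ∀ T : Subgroup V, (∀ c : Λ, ∀ x ∈ T, ρA c x ∈ T) → T = ⊥ ∨ T = ⊤ := by
    intro T hSinv
    by_cases hbot : T = ⊥
    · exact Or.inl hbot
    refine Or.inr (eq_top_iff.2 fun y _ => ?_)
    obtain ⟨⟨x, hx⟩, hx1⟩ := (Subgroup.ne_bot_iff_exists_ne_one).1 hbot
    have hx0 : Multiplicative.toAdd x ≠ 0 := fun e => hx1 (Subtype.ext e)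
    obtain ⟨l, n, e⟩ := RotationTools.exists_decomp U hσε
      (Multiplicative.toAdd y / Multiplicative.toAdd x)
    have hfix : ∀ (l : UnitaryUnique.Fix σ) (x : V), x ∈ T →
        Multiplicative.ofAdd ((l : F) * Multiplicative.toAdd x) ∈ T := by
      intro l x hx
      by_cases hl : (l : F) = 0
      · rw [hl, zero_mul]; exact one_mem T
      · exact hSinv ⟨_, hscal l hl⟩ x hx
    have hy : y = Multiplicative.ofAdd ((l : F) * Multiplicative.toAdd x) *
        Multiplicative.ofAdd ((n : F) * (U.ε * Multiplicative.toAdd x)) := by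
      show Multiplicative.toAdd y = (l : F) * Multiplicative.toAdd x + (n : F) * (U.ε * Multiplicative.toAdd x)
      rw [(div_eq_iff hx0).1 e]
      ring
    rw [hy]
    exact mul_mem (hfix l x hx) (hfix n _ (hSinv ⟨_, hrot⟩ x hx))
  -- a scalar of a forbidden order
  have hinjA : Function.Injective ρA := fun c d e => Subtype.ext (Units.ext (by
    have := congrArg (fun f : MulAut V => Multiplicative.toAdd (f (Multiplicative.ofAdd 1))) e
    simpa [hρA] using this))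
  obtain ⟨g₀, hg₀⟩ : ∃ g : Λ, ∀ k : ℕ, ¬ orderOf (ρA g) ∣ 2 ^ k + 1 := by
    have hcardFix : Nat.card (UnitaryUnique.Fix σ) = q := UnitaryUnique.card_Fix (σ := σ) (q := q)
    haveI : Finite (UnitaryUnique.Fix σ) := Finite.of_injective _ Subtype.val_injective
    obtain ⟨l₀, hl₀⟩ := IsCyclic.exists_ofOrder_eq_natCard (α := (UnitaryUnique.Fix σ)ˣ)
    have hl0 : ((l₀ : UnitaryUnique.Fix σ) : F) ≠ 0 := fun e => l₀.ne_zero (Subtype.ext e)
    set gl : Λ := ⟨_, hscal (l₀ : UnitaryUnique.Fix σ) hl0⟩ with hgl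
    have hogl : orderOf gl = q - 1 := by
      rw [← Subgroup.orderOf_coe, ← orderOf_units]
      show orderOf (((l₀ : UnitaryUnique.Fix σ) : F)) = q - 1
      have e1 : orderOf (((l₀ : UnitaryUnique.Fix σ) : F)) = orderOf (l₀ : UnitaryUnique.Fix σ) :=
        orderOf_injective
          ({ toFun := fun l => (l : F), map_one' := rfl, map_mul' := fun _ _ => rfl } :
            UnitaryUnique.Fix σ →* F) Subtype.val_injective (l₀ : UnitaryUnique.Fix σ)
      rw [e1, orderOf_units, hl₀, Nat.card_units, hcardFix]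
    rcases Nat.lt_or_ge m 3 with hm | hm
    · obtain rfl : m = 2 := by omega
      set ge : Λ := ⟨_, hrot⟩ with hge
      have h5 : U.ε ^ 5 = 1 := by
        have := U.ε_norm
        have h4 : q = 4 := hqm.trans (by norm_num)
        rw [U.card_field.2] at this
        subst h4
        rw [pow_succ']; exact this
      have hoge : orderOf ge = 5 := by
        haveI : Fact (Nat.Prime 5) := ⟨by norm_num⟩
        rw [← Subgroup.orderOf_coe, ← orderOf_units]
        exact orderOf_eq_prime h5 U.ε_ne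
      refine ⟨gl * ge, fun k => ?_⟩
      rw [orderOf_injective ρA hinjA, (Commute.all gl ge).orderOf_mul_eq_mul_orderOf_of_coprime
        (by rw [hogl, hoge, hqm]; decide), hogl, hoge, hqm]
      exact InvariantForm.not_fifteen_dvd k
    · refine ⟨gl, fun k hk => ?_⟩
      rw [orderOf_injective ρA hinjA, hogl, hqm] at hk
      have := InvariantForm.le_two_of_dvd hk
      omega
  have hB1 := InvariantForm.eq_one_of_order hV2 ρA hirr B hl hr hinvB hg₀
  have hcomm : ∀ x ∈ P0, ∀ y ∈ P0, Commute (π' x) (π' y) := fun x hx y hy =>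
    commutatorElement_eq_one_iff_commute.1 ((hB x hx y hy).trans (hB1 _ _))
  intro x hx
  -- subtract the rotated preimage
  have hε1 : U.ε + 1 ≠ 0 := fun e => U.ε_ne (CharTwo.add_eq_zero.1 e)
  obtain ⟨g, hg⟩ := hrot
  set y := (L (U.π (ρ x) / (U.ε + 1)) : S) with hy
  have hyP : y ∈ P0 := (L _).2
  have hπ : U.π (ρ ((g * y * g⁻¹) * y)) = U.π (ρ x) := by
    rw [map_mul ρ (g * y * g⁻¹), U.π_mul _ (hconjQ g y hyP) _ hyP, hg y hyP, hy, hL,
      Units.val_mk0]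
    field_simp
  obtain ⟨hwc, hww⟩ := hoverZ (hover _ (mul_mem (hconjQ g y hyP) hyP) x hx hπ)
  set w := (g * y * g⁻¹ * y)⁻¹ * x with hw
  have e : π' x = π' (g * y * g⁻¹) * π' y * π' w := by
    rw [← map_mul, ← map_mul, hw, mul_inv_cancel_left]
  rw [e, Commute.mul_mul_mul_comm (hwc _) _ _, hww, mul_one,
    Commute.mul_mul_mul_comm (hcomm y hyP _ (hconjQ g y hyP)) _ _, hsqinv g y hyP]
  rw [← map_mul]
  exact (hsqC y hyP).2

end

end KernelOdd

namespace TISetting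

variable {G : Type u} {Ω : Type v} [Group G] [Finite G] [Finite Ω] [MulAction G Ω]
  {W : Ω → Subgroup G} {H : Subgroup G}

/-- No involution of the core fixes all its points. -/
theorem kernel_odd (h : TISetting W) {a b : Ω} (ha : a ∈ pts W H) (hb : b ∈ pts W H) (hab : b ≠ a)
    (four : 4 ≤ Nat.card ↥(W a ⊓ H)) {t : ↥(h.CoreImg H)} {Qb : Subgroup ↥(h.CoreImg H)}
    (hS : IsRankOneSetup ↥(h.CoreImg H) ↥(h.coreAct H) ⟨a, ha⟩ t Qb)
    (hfacts : ∀ Z K : Subgroup ↥(h.CoreImg H), Small.Data (⟨a, ha⟩ : ↥(h.coreAct H)) t Qb Z K →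
      Line.SplitFacts Qb Z) :
    ∀ z ∈ core W H, z * z = 1 → (∀ c ∈ pts W H, z • c = c) → z = 1 := by
  classical
  haveI : Fact (Nat.Prime 2) := ⟨Nat.prime_two⟩
  intro z₀ hz₀ hz₀2 hz₀fix
  by_contra hz₀1
  set pa : ↥(h.coreAct H) := ⟨a, ha⟩ with hpa
  have h2 := h.exists_two_img hb hab four
  obtain ⟨Z, Kt, A⟩ := Small.exists_data hS h2
  have hF := hfacts Z Kt A
  -- the stabiliser in the core
  set S0 : Subgroup G := core W H ⊓ stabilizer G a with hS0
  let ρ0 : ↥S0 →* ↥(h.CoreImg H) := (h.rho H).comp (Subgroup.inclusion inf_le_left)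
  have hρ0fix : ∀ x : ↥S0, ρ0 x ∈ stabilizer ↥(h.CoreImg H) pa := fun x =>
    Subtype.ext (mem_stabilizer_iff.1 x.2.2)
  have hρ0surj : ∀ β : ↥(h.CoreImg H), β ∈ stabilizer ↥(h.CoreImg H) pa → ∃ x, ρ0 x = β := by
    intro β hβ
    obtain ⟨x, rfl⟩ := h.rho_surjective H β
    exact ⟨⟨x, x.2, congrArg Subtype.val (mem_stabilizer_iff.1 hβ)⟩, rfl⟩
  have hcentral : ∀ {x : ↥S0}, ρ0 x = 1 → ∀ y : ↥S0, Commute x y := fun {x} hx y =>
    Subtype.ext (congrArg Subtype.val (h.commute_of_rho_one ha hb hab.symm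
      (x := ⟨x, x.2.1⟩) hx ⟨y, y.2.1⟩).eq :)
  let ι0 : ↥(W a ⊓ H) →* ↥S0 :=
    { toFun := fun d => ⟨d, mem_core_of_mem d.2, h.fix a d.2.1⟩
      map_one' := rfl
      map_mul' := fun _ _ => rfl }
  have hι0 : ∀ d, ρ0 (ι0 d) = h.rho H (memberHom W H a d) := fun _ => rfl
  let Sq : Subgroup ↥S0 :=
    { carrier := {x | ∃ z, ρ0 z = 1 ∧ x = z * z}
      one_mem' := ⟨1, map_one _, (one_mul 1).symm⟩
      mul_mem' := fun {x y} ⟨z, hz, hx⟩ ⟨z', hz', hy⟩ =>
        ⟨z * z', by rw [map_mul, hz, hz', one_mul], by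
          rw [hx, hy, (hcentral hz z').symm.mul_mul_mul_comm]⟩
      inv_mem' := fun {x} ⟨z, hz, hx⟩ => ⟨z⁻¹, by rw [map_inv, hz, inv_one], by
        rw [hx, mul_inv_rev]⟩ }
  haveI hRn : ι0.range.Normal := ⟨by
    rintro _ ⟨d, rfl⟩ g
    have hgH : (g : G) ∈ H := core_le W H g.2.1
    refine ⟨⟨(g : G) * d * (g : G)⁻¹, ?_, H.mul_mem (H.mul_mem hgH d.2.2) (H.inv_mem hgH)⟩, rfl⟩
    have := h.conj (g : G) a d d.2.1
    rwa [mem_stabilizer_iff.1 g.2.2] at this⟩
  haveI hSqn : Sq.Normal := ⟨by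
    rintro x ⟨z, hz, rfl⟩ g
    refine ⟨z, hz, ?_⟩
    rw [← ((hcentral hz g).mul_left (hcentral hz g)).eq, mul_inv_cancel_right]⟩
  set M : Subgroup ↥S0 := ι0.range ⊔ Sq with hM
  haveI : M.Normal := Subgroup.sup_normal _ _
  set qm : ↥S0 →* ↥S0 ⧸ M := QuotientGroup.mk' M
  have hq1 : ∀ x, qm x = 1 ↔ x ∈ M := fun x => QuotientGroup.eq_one_iff x
  -- a kernel element outside `M`
  have hkerM : ∀ {x : ↥S0}, ρ0 x = 1 → x ∈ M → ∃ s, ρ0 s = 1 ∧ x = s * s := by
    intro x hx hxM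
    obtain ⟨-, ⟨d, rfl⟩, y, hy, e⟩ := Subgroup.mem_sup_of_normal_right.1 hxM
    obtain ⟨s, hs, rfl⟩ := hy
    have hd : ρ0 (ι0 d) = 1 := by
      rw [← e, map_mul, map_mul, hs, mul_one, mul_one] at hx
      exact hx
    have hd1 : d = 1 := h.member_img_injective hb hab
      (show h.rho H (memberHom W H a d) = h.rho H (memberHom W H a 1) by
        rw [← hι0, hd, map_one, map_one])
    refine ⟨s, hs, ?_⟩
    rw [← e, hd1, map_one, one_mul]
  obtain ⟨n₀, hn₀, hn₀M⟩ : ∃ n : ↥S0, ρ0 n = 1 ∧ n ∉ M := by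
    by_contra hno
    push Not at hno
    let sq : {x : ↥S0 // ρ0 x = 1} → {x : ↥S0 // ρ0 x = 1} :=
      fun x => ⟨x * x, by rw [map_mul, x.2, one_mul]⟩
    have hsurj : Function.Surjective sq := fun x => by
      obtain ⟨s, hs, e⟩ := hkerM x.2 (hno x x.2)
      exact ⟨⟨s, hs⟩, Subtype.ext e.symm⟩
    have hzS : z₀ ∈ S0 := ⟨hz₀, hz₀fix a ha⟩
    have hz₀ρ : ρ0 ⟨z₀, hzS⟩ = 1 := h.rho_eq_one.2 hz₀fix
    have := (Finite.injective_iff_surjective.2 hsurj)
      (a₁ := (⟨⟨z₀, hzS⟩, hz₀ρ⟩ : {x : ↥S0 // ρ0 x = 1})) (a₂ := ⟨1, map_one _⟩)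
      (Subtype.ext (Subtype.ext (show z₀ * z₀ = 1 * 1 by rw [one_mul, hz₀2])))
    exact hz₀1 (congrArg (fun x : {x : ↥S0 // ρ0 x = 1} => ((x : ↥S0) : G)) this)
  have hkerK : ∀ {x : ↥S0}, ρ0 x = 1 →
      (∀ y : ↥S0 ⧸ M, Commute (qm x) y) ∧ qm x * qm x = 1 := by
    intro x hx
    refine ⟨fun y => ?_, ?_⟩
    · obtain ⟨y', rfl⟩ := QuotientGroup.mk'_surjective M y
      exact (hcentral hx y').map qm
    · rw [← map_mul, hq1]
      exact Subgroup.mem_sup_right ⟨x, hx, rfl⟩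
  -- over `Z` everything is central of exponent two
  have hoverZ : ∀ {x : ↥S0}, ρ0 x ∈ Z → (∀ y, Commute (qm x) y) ∧ qm x * qm x = 1 := by
    intro x hx
    obtain ⟨d, hd⟩ := h.exists_member_img A hb hab hx
    have hdiff : ρ0 ((ι0 d)⁻¹ * x) = 1 := by
      rw [map_mul, map_inv, hι0, hd, inv_mul_cancel]
    have hqd : qm (ι0 d) = 1 := (hq1 _).2 (Subgroup.mem_sup_left ⟨d, rfl⟩)
    have e : qm x = qm ((ι0 d)⁻¹ * x) := by rw [map_mul, map_inv, hqd, inv_one, one_mul]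
    rw [e]
    exact hkerK hdiff
  set P0 : Subgroup ↥S0 := Qb.comap ρ0 with hP0
  have hC : KernelOdd.Cover pa Z ρ0 qm := ⟨hρ0fix, hρ0surj, hoverZ⟩
  -- squares vanish
  have hsq : ∀ x ∈ P0, qm x * qm x = 1 := by
    rcases Line.card_translations hS h2 A with ⟨-, hcard | hcard⟩ | ⟨hW, -⟩
    · intro x hx
      have hQZ : Z = Qb := Subgroup.eq_of_le_of_card_ge A.Z_le_Q hcard.le
      exact (hoverZ (hQZ.symm ▸ hx : ρ0 x ∈ Z)).2
    · exact KernelOdd.sq_square hC hF hS A hcard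
    · exact KernelOdd.sq_cube hC hF hS A h2 hW
  -- the images of the translations form an abelian Sylow subgroup
  set Pq : Subgroup (↥S0 ⧸ M) := P0.map qm with hPq
  have hPel : ∀ y ∈ Pq, y * y = 1 := by rintro _ ⟨x, hx, rfl⟩; exact hsq x hx
  have hPp : IsPGroup 2 Pq := fun y => ⟨1, Subtype.ext (by
    rw [pow_one, pow_two]; exact hPel _ y.2)⟩
  have hodd : Odd Pq.index := by
    refine Odd.of_dvd_nat ?_ (Subgroup.index_map_dvd P0 (QuotientGroup.mk'_surjective M))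
    let ρs : ↥S0 →* stabilizer ↥(h.CoreImg H) pa := ρ0.codRestrict _ hρ0fix
    have hsurj : Function.Surjective ρs := fun β => by
      obtain ⟨x, hx⟩ := hρ0surj β β.2
      exact ⟨x, Subtype.ext hx⟩
    have hcomap : P0 = (Qb.subgroupOf (stabilizer ↥(h.CoreImg H) pa)).comap ρs := rfl
    rw [hcomap, Subgroup.index_comap_of_surjective _ hsurj]
    have h1 := (Qb.subgroupOf (stabilizer ↥(h.CoreImg H) pa)).card_mul_index
    rw [Nat.card_congr (Subgroup.subgroupOfEquivOfLe hS.le).toEquiv, card_stabilizer hS] at h1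
    rw [Nat.eq_of_mul_eq_mul_left Nat.card_pos h1]
    exact hS.odd_card
  have hnd : ¬ 2 ∣ Pq.index := by rw [← even_iff_two_dvd]; exact Nat.not_even_iff_odd.2 hodd
  -- an odd power of the kernel element
  obtain ⟨k, m, hm, e⟩ := Nat.exists_eq_two_pow_mul_odd (orderOf_pos n₀).ne'
  obtain ⟨hnc, hnn⟩ := hkerK hn₀
  have hqn : qm (n₀ ^ m) = qm n₀ := by
    obtain ⟨j, hj⟩ := hm
    rw [map_pow, hj, pow_succ, pow_mul, pow_two, hnn, one_pow, one_mul]
  refine h.false_of_core_central ha qm (hPp.toSylow hnd) (fun x hx y hy => ?_)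
    (fun d hd => (hq1 d).2 (Subgroup.mem_sup_left ⟨⟨d, hd, core_le W H d.2.1⟩, rfl⟩))
    (n₀ ^ m) (k := k) ?_ ?_ ?_
  · rw [IsPGroup.toSylow_coe] at hx hy
    have hinv : ∀ a ∈ Pq, a⁻¹ = a := fun a ha' => inv_eq_of_mul_eq_one_right (hPel a ha')
    show x * y = y * x
    calc x * y = (x * y)⁻¹ := (hinv _ (mul_mem hx hy)).symm
      _ = y * x := by rw [mul_inv_rev, hinv x hx, hinv y hy]
  · rw [← pow_mul, mul_comm, ← e, pow_orderOf_eq_one]
  · rw [hqn, Subgroup.mem_center_iff]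
    exact fun y => (hnc y).eq.symm
  · rw [hqn]
    exact fun e' => hn₀M ((hq1 _).1 e')

end TISetting

end CfsgLib.LocalEven.TIEndgame
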