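import Cfsg.Agent.Lib.RankOne.Split.Conclusion

/-!
# The torus of a rank-one set-up generated by involutions

If the group is generated by involutions, the two-point stabiliser is commutative, the translation
group has order `q`, `q²` or `q³` for `q` the number of involutions at the point plus one, and in the
last case some element of the torus centralises exactly the involutions among the translations.
-/

set_option autoImplicit false
set_option linter.style.haveILetI false

open Cfsg

namespace CfsgLib.LocalEven.TIEndgame.Line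

open MulAction CfsgLib.RankOne CfsgLib.RankOne.UnitaryUnique CfsgLib.Classical

universe u v

variable {G : Type u} {Ω : Type v} [Group G] [MulAction G Ω]

/-- The set-up can be based at every point different from `a`. -/
theorem exists_setup_at [Finite G] {a : Ω} {t : G} {Q : Subgroup G}
    (hS : IsRankOneSetup G Ω a t Q) {b : Ω} (hb : b ≠ a) :
    ∃ t' : G, IsRankOneSetup G Ω a t' Q ∧ t' • a = b := by
  obtain ⟨h, ⟨hh, hhb⟩, -⟩ := exists_q hS hb
  have hha : h⁻¹ • a = a := inv_smul_eq_iff.2 (hS.le hh).symm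
  have hta : (h * t * h⁻¹) • a = b := by rw [mul_smul, mul_smul, hha, hhb]
  have hha' : h • a = a := hS.le hh
  have hmem : ∀ d : G, d ∈ stabilizer G a ⊓ stabilizer G ((h * t * h⁻¹) • a) ↔
      h⁻¹ * d * h ∈ two G a t := by
    intro d
    rw [hta, mem_two hS, Subgroup.mem_inf, mem_stabilizer_iff, mem_stabilizer_iff]
    refine and_congr ?_ ?_
    · rw [mul_smul, mul_smul, hha', inv_smul_eq_iff, hha']
    · rw [mul_smul, mul_smul, hhb, inv_smul_eq_iff, hhb]
  refine ⟨h * t * h⁻¹, ⟨hS.two_transitive, ?_, ?_, ?_, hS.le, hS.conj_mem, ?_, ?_, hS.even_card, ?_⟩, hta⟩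
  · calc h * t * h⁻¹ * (h * t * h⁻¹) = h * (t * t) * h⁻¹ := by group
      _ = 1 := by rw [hS.mul_self]; group
  · exact fun e => hS.ne_one (conj_eq_one_iff.1 e)
  · exact fun e => hb (hta.symm.trans e)
  · refine (Subgroup.eq_bot_iff_forall _).2 fun x hx => eq_one_of_fix hS hx.1 hb ?_
    rw [← hta]; exact hx.2
  · refine le_antisymm (sup_le hS.le inf_le_left) fun g hg => ?_
    obtain ⟨q, hq, d, hd, e⟩ := exists_qd hS (g := h⁻¹ * g * h)
      (mul_mem (mul_mem (inv_mem (hS.le hh)) hg) (hS.le hh))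
    have hd' : h * d * h⁻¹ ∈ stabilizer G a ⊓ stabilizer G ((h * t * h⁻¹) • a) := by
      rw [hmem]; simpa [mul_assoc] using hd
    have := Subgroup.mul_mem_sup (hS.conj_mem h (hS.le hh) q hq) hd'
    rwa [show h * q * h⁻¹ * (h * d * h⁻¹) = g by
      rw [show h * q * h⁻¹ * (h * d * h⁻¹) = h * (q * d) * h⁻¹ by group, ← e]; group] at this
  · rw [show Nat.card ↥(stabilizer G a ⊓ stabilizer G ((h * t * h⁻¹) • a)) = Nat.card (two G a t) from
      Nat.card_congr ((MulAut.conj h⁻¹).toEquiv.subtypeEquiv fun d => by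
        simpa [mul_assoc] using hmem d)]
    exact hS.odd_card

/-- A normal subgroup of odd index is everything if involutions generate. -/
theorem eq_top_of_odd_index (hgen : Subgroup.closure {g : G | g * g = 1} = ⊤)
    {L : Subgroup G} (hn : L.Normal) (hodd : Odd L.index) : L = ⊤ := by
  haveI := hn
  refine top_le_iff.1 (hgen ▸ (Subgroup.closure_le L).2 fun g hg => ?_)
  obtain ⟨m, hm⟩ := hodd
  have h := L.pow_index_mem g
  have hg2 : g ^ 2 = 1 := (pow_two g).trans hg
  rwa [hm, pow_succ, pow_mul, hg2, one_pow, one_mul] at h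

section Standard

variable {a : Ω} {t : G} {Q : Subgroup G}

/-- Two diagonal elements commute in the standard model. -/
theorem act_comm_of_fix {F : Type*} [Field F] [Fintype F] [CharP F 2] {σ : F →+* F}
    [Fact (IsConjugation σ)] {q : ℕ} [Fact (Fintype.card F = q ^ 2 ∧ ∀ x, σ x = x ^ q)]
    {M N : Cfsg.SU 3 F q} (hM : Model.act σ q M none = none)
    (hM' : Model.act σ q M (some 1) = some (1 : UnitarySylow.Heis σ))
    (hN : Model.act σ q N none = none)
    (hN' : Model.act σ q N (some 1) = some (1 : UnitarySylow.Heis σ)) : M * N = N * M := by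
  obtain ⟨l1, l2, l3, -, -, hd⟩ := Model.diag_of_fix (σ := σ) hM hM'
  obtain ⟨k1, k2, k3, -, -, hk⟩ := Model.diag_of_fix (σ := σ) hN hN'
  refine Subtype.ext (Subtype.ext ?_)
  change Model.mat M * Model.mat N = Model.mat N * Model.mat M
  refine Matrix.toLin'.injective (LinearMap.ext fun u => ?_)
  obtain ⟨x, y, z, rfl⟩ := Model.exists_cmb (σ := σ) u
  simp only [Matrix.toLin'_apply, ← Matrix.mulVec_mulVec, hd, hk]
  congr 1 <;> ring

variable [Finite G] [FaithfulSMul G Ω]

/-- Under the standard map the two-point stabiliser is commutative. -/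
theorem two_comm_of_standard (hS : IsRankOneSetup G Ω a t Q) {F : Type} [Field F] [Fintype F]
    [CharP F 2] {σ : F →+* F} {q : ℕ} [Fact (IsConjugation σ)]
    [Fact (Fintype.card F = q ^ 2 ∧ ∀ x, σ x = x ^ q)] (U : UCoord a t Q F σ q)
    (hst : IsStandard a t U.θ) (hgen : Subgroup.closure {g : G | g * g = 1} = ⊤) {d d' : G}
    (hd : d ∈ two G a t) (hd' : d' ∈ two G a t) : d * d' = d' * d := by
  have hθa : ∀ g : UnitarySylow.Heis σ, (U.θ g : G) • a = a := fun g => hS.le (U.θ g).2
  have hne : ∀ g : UnitarySylow.Heis σ, (U.θ g : G) • t • a ≠ a := fun g h =>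
    ta_ne hS (smul_left_cancel _ (h.trans (hθa g).symm))
  let E : Option (UnitarySylow.Heis σ) → Ω := fun p => p.elim a fun g => (U.θ g : G) • t • a
  have hE : Function.Bijective E := by
    refine ⟨?_, fun c => ?_⟩
    · rintro (_ | g) (_ | g') h
      · rfl
      · exact absurd h.symm (hne g')
      · exact absurd h (hne g)
      · obtain ⟨r, -, hr⟩ := exists_q hS (hne g')
        exact congrArg some (U.θ.injective (Subtype.ext
          ((hr _ ⟨(U.θ g).2, h⟩).trans (hr _ ⟨(U.θ g').2, rfl⟩).symm)))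
    · by_cases hc : c = a
      · exact ⟨none, hc.symm⟩
      · obtain ⟨r, ⟨hr, hrc⟩, -⟩ := exists_q hS hc
        obtain ⟨g, hg⟩ := U.θ.surjective ⟨r, hr⟩
        exact ⟨some g, by rw [← hrc]; exact congrArg (fun z : Q => (z : G) • t • a) hg⟩
  let e : Option (UnitarySylow.Heis σ) ≃ Ω := Equiv.ofBijective E hE
  let ψ : G →* Equiv.Perm (Option (UnitarySylow.Heis σ)) :=
    e.symm.permCongrHom.toMonoidHom.comp (MulAction.toPermHom G Ω)
  have hψ : ∀ g p, ψ g p = e.symm (g • e p) := fun g p => rfl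
  have hinj : Function.Injective ψ := fun g h hgh => FaithfulSMul.eq_of_smul_eq_smul (α := Ω) fun b => by
    obtain ⟨p, rfl⟩ := e.surjective b
    exact e.symm.injective (by rw [← hψ, ← hψ, hgh])
  have hθ : ∀ g, ψ (U.θ g) = Model.act σ q (Model.trans σ q g) := fun g => Equiv.ext fun p => by
    rw [hψ, Equiv.symm_apply_eq]
    rcases p with _ | x
    · rw [Model.act_trans_none]; exact hθa g
    · rw [Model.act_trans_some]
      change (U.θ g : G) • (U.θ x : G) • t • a = (U.θ (g * x) : G) • t • a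
      rw [map_mul, Subgroup.coe_mul, mul_smul]
  have ht : ψ t = Model.act σ q (Model.swap σ q) := Equiv.ext fun p => by
    rw [hψ, Equiv.symm_apply_eq]
    rcases p with _ | x
    · rw [Model.act_swap_none]
      change t • a = (U.θ 1 : G) • t • a
      rw [map_one, OneMemClass.coe_one, one_smul]
    · by_cases hx : x = 1
      · subst hx
        rw [Model.act_swap_one]
        change t • (U.θ 1 : G) • t • a = a
        rw [map_one, OneMemClass.coe_one, one_smul, tt_smul hS]
      · rw [Model.act_swap_some hx]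
        exact hst x hx
  have h0 : e none = a := rfl
  have h1 : e (some 1) = t • a := by
    change (U.θ 1 : G) • t • a = t • a
    rw [map_one, OneMemClass.coe_one, one_smul]
  clear_value ψ
  have htop : Q ⊔ Q.map (MulAut.conj t).toMonoidHom = ⊤ :=
    eq_top_of_odd_index hgen (exists_normal_closure hS).1 (exists_normal_closure hS).2
  have hrange : ∀ g : G, ψ g ∈ (Model.act σ q).range := by
    suffices (⊤ : Subgroup G) ≤ (Model.act σ q).range.comap ψ from fun g => this (Subgroup.mem_top g)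
    rw [← htop]
    refine sup_le (fun y hy => ?_) ?_
    · obtain ⟨g, hg⟩ := U.θ.surjective ⟨y, hy⟩
      refine Subgroup.mem_comap.2 ⟨Model.trans σ q g, ?_⟩
      rw [← hθ, hg]
    · rintro _ ⟨y, hy, rfl⟩
      obtain ⟨g, hg⟩ := U.θ.surjective ⟨y, hy⟩
      refine Subgroup.mem_comap.2 ⟨Model.swap σ q * Model.trans σ q g * (Model.swap σ q)⁻¹, ?_⟩
      simp [← ht, ← hθ, hg]
  have hfix : ∀ x ∈ two G a t, ψ x none = none ∧ ψ x (some 1) = some (1 : UnitarySylow.Heis σ) := by
    intro x hx
    rw [hψ, hψ, Equiv.symm_apply_eq, Equiv.symm_apply_eq, h0, h1]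
    exact (mem_two hS).1 hx
  obtain ⟨M, hM⟩ := hrange d
  obtain ⟨N, hN⟩ := hrange d'
  have hMf := hM ▸ hfix d hd
  have hNf := hN ▸ hfix d' hd'
  refine hinj ?_
  rw [map_mul, map_mul, ← hM, ← hN, ← map_mul, ← map_mul,
    act_comm_of_fix hMf.1 hMf.2 hNf.1 hNf.2]

end Standard

section

variable [Finite G] [FaithfulSMul G Ω] {a : Ω} {t : G} {Q : Subgroup G}
  (hS : IsRankOneSetup G Ω a t Q)
  (h2 : ∃ x y : G, x ≠ 1 ∧ y ≠ 1 ∧ x ≠ y ∧ x * x = 1 ∧ y * y = 1 ∧ x * y = y * x)

include hS h2

/-- The three possible orders of the translation group. -/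
theorem card_translations {Z K : Subgroup G} (A : Small.Data a t Q Z K) :
    (kernelW G a t = ⊥ ∧ (Nat.card Q = Nat.card Z ∨ Nat.card Q = Nat.card Z ^ 2)) ∨
      (kernelW G a t ≠ ⊥ ∧ Nat.card Q = Nat.card Z ^ 3) := by
  rcases eq_or_ne (kernelW G a t) ⊥ with hW | hW
  · refine Or.inl ⟨hW, ?_⟩
    rcases A.card_cases hW h2 with e | e | ⟨h, e⟩
    · exact Or.inl e
    · exact Or.inr e
    · exact absurd e (A.not_cubic hW h)
  · obtain ⟨hsuz, hcard⟩ := (kernelW_dichotomy hS h2).resolve_left hW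
    refine Or.inr ⟨hW, ?_⟩
    obtain ⟨-, hZ⟩ := Cfsg.Agent.S1137.result hsuz
    have hc : (Subgroup.center Q).map Q.subtype = Z := by
      ext z
      constructor
      · rintro ⟨x, hx, rfl⟩
        exact (A.mem_Z _).2 ⟨hS.le x.2, congrArg Subtype.val (hZ x hx)⟩
      · intro hz
        exact ⟨⟨z, (A.central z hz).1⟩, Subgroup.mem_center_iff.2 fun y =>
          Subtype.ext ((A.central z hz).2 y y.2).symm, rfl⟩
    rw [hcard, ← hc, Subgroup.card_map_of_injective Q.subtype_injective]

/-- If involutions generate, the two-point stabiliser is commutative. -/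
theorem two_comm (hgen : Subgroup.closure {g : G | g * g = 1} = ⊤) {d d' : G} (hd : d ∈ two G a t)
    (hd' : d' ∈ two G a t) : d * d' = d' * d := by
  obtain ⟨Z, K, A⟩ := Small.exists_data hS h2
  rcases card_translations hS h2 A with ⟨-, hcard⟩ | ⟨hW, -⟩
  · have hF := A.frame hcard
    have htop := eq_top_of_odd_index hgen (A.span_normal hF) (A.odd_index_span hF)
    have hmem : ∀ x ∈ two G a t, x ∈ K := fun x hx =>
      A.span_two hF (htop ▸ Subgroup.mem_top x) hx
    haveI := A.cyclicK
    obtain ⟨k, hk⟩ := IsCyclic.exists_generator (α := K)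
    obtain ⟨i, hi⟩ := hk ⟨d, hmem d hd⟩
    obtain ⟨j, hj⟩ := hk ⟨d', hmem d' hd'⟩
    have hi' : (k : G) ^ i = d := by simpa using congrArg Subtype.val hi
    have hj' : (k : G) ^ j = d' := by simpa using congrArg Subtype.val hj
    rw [← hi', ← hj']
    exact ((Commute.refl (k : G)).zpow_zpow i j).eq
  · obtain ⟨F, _, _, _, σ, q, -, ⟨U⟩⟩ := exists_ucoord₀ hS h2 hW
    haveI : Fact (IsConjugation σ) := ⟨U.conj⟩
    haveI : Fact (Fintype.card F = q ^ 2 ∧ ∀ x, σ x = x ^ q) := ⟨U.card_field⟩
    obtain ⟨ψ, hψ, -⟩ := U.exists_extend hS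
    obtain ⟨U₁⟩ := exists_ucoord hS U ψ hψ
    obtain ⟨U₂, h⟩ := exists_standard hS U₁
    exact two_comm_of_standard hS U₂ h hgen hd hd'

/-- In the unitary case a torus element centralises exactly the involutions among the translations. -/
theorem exists_rotation (hW : kernelW G a t ≠ ⊥) : ∃ z ∈ two G a t,
    (∀ s ∈ involutionsIn (stabilizer G a : Set G), z * s = s * z) ∧
      ∀ x ∈ Q, z * x = x * z → x * x = 1 := by
  obtain ⟨F, _, _, _, σ, q, -, ⟨U⟩⟩ := exists_ucoord₀ hS h2 hW
  obtain ⟨w, hw, -, hwπ, hwι⟩ := U.rotation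
  refine ⟨w, hw, fun s hs => ?_, fun x hx hc => ?_⟩
  · have hsQ := odd_mem_q hS hs.1 hs.2.2
    obtain ⟨z, rfl⟩ := (U.π_eq_zero s hsQ).1 (U.π_invol s hsQ hs.2.2)
    exact mul_inv_eq_iff_eq_mul.1 (hwι z)
  · have h := hwπ x hx
    rw [hc, mul_inv_cancel_right] at h
    have h0 : U.π x = 0 := by
      by_contra hne
      exact U.ε_ne (mul_right_cancel₀ hne (h.symm.trans (one_mul _).symm))
    obtain ⟨z, rfl⟩ := (U.π_eq_zero x hx).1 h0
    exact U.ι_sq z

end

end CfsgLib.LocalEven.TIEndgame.Line
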