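import Cfsg.Agent.Lib.LocalEven.TIEndgame.Line.SetupImage
import Cfsg.Agent.Lib.LocalEven.TIEndgame.Line.Torus
import Cfsg.Agent.Lib.RankOne.Split.TwoGroup

/-!
# The splitting 2-group of a local configuration

`core W H` acts on `pts W H` as a rank-one group with translation group `Q'`; the kernel is central
of odd order, so the 2-elements of the stabiliser of `a` form a subgroup mapped bijectively on `Q'`.
-/

set_option autoImplicit false
set_option linter.style.haveILetI false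

open Cfsg
open scoped commutatorElement

namespace CfsgLib.LocalEven.TIEndgame

open MulAction CfsgLib.RankOne

universe u v

namespace Line

/-- The facts about a faithful rank-one set-up needed for `Loc`. -/
structure SplitFacts {X : Type*} [Group X] (Q Z : Subgroup X) : Prop where
  sq_mem : ∀ x ∈ Q, x * x ∈ Z
  comm_mem : ∀ x ∈ Q, ∀ y ∈ Q, ⁅x, y⁆ ∈ Z
  square_log : Nat.card Q = Nat.card Z ^ 2 → ∃ r : ℕ, Odd r ∧ 3 ≤ r ∧ Nat.card Z = 2 ^ r
  square_inj : Nat.card Q = Nat.card Z ^ 2 → ∀ x ∈ Q, ∀ y ∈ Q, x * x = y * y → x⁻¹ * y ∈ Z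
  square_comm : Nat.card Q = Nat.card Z ^ 2 → ∀ x ∈ Q, x ∉ Z → ∀ y ∈ Q, Commute x y →
    y ∈ Z ∨ x⁻¹ * y ∈ Z

variable {X : Type*} [Group X] [Finite X] {Δ : Type*} [MulAction X Δ]

/-- A 2-element of the point stabiliser of a rank-one set-up is a translation. -/
theorem mem_of_two_power {a : Δ} {t : X} {Q : Subgroup X} (hS : IsRankOneSetup X Δ a t Q) {x : X}
    (hx : x ∈ stabilizer X a) {k : ℕ} (hk : x ^ 2 ^ k = 1) : x ∈ Q := by
  obtain ⟨q, hq, d, hd, rfl⟩ := exists_qd hS hx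
  have key : ∀ n : ℕ, ∃ q' ∈ Q, (q * d) ^ n = q' * d ^ n := by
    intro n
    induction n with
    | zero => exact ⟨1, one_mem _, by simp⟩
    | succ n ih =>
      obtain ⟨q', hq', e⟩ := ih
      refine ⟨q' * (d ^ n * q * (d ^ n)⁻¹), mul_mem hq'
        (hS.conj_mem _ (pow_mem (show d ∈ stabilizer X a from hd.1) n) q hq), ?_⟩
      rw [pow_succ, e, pow_succ]
      group
  set m := Nat.card (two X a t)
  obtain ⟨q', hq', e⟩ := key m
  have hdm : d ^ m = 1 :=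
    congrArg Subtype.val (pow_card_eq_one' (x := (⟨d, hd⟩ : two X a t)))
  rw [hdm, mul_one] at e
  have hcop : Nat.Coprime m (2 ^ k) :=
    Nat.Coprime.pow_right k (Nat.coprime_two_right.2 hS.odd_card)
  obtain ⟨n, hn⟩ := exists_pow_eq_self_of_coprime (x := q * d)
    (Nat.Coprime.coprime_dvd_right (orderOf_dvd_of_pow_eq_one hk) hcop)
  rw [← hn, e]
  exact pow_mem hq' n

end Line

namespace TISetting

variable {G : Type u} {Ω : Type v} [Group G] [Finite G] [Finite Ω] [MulAction G Ω]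
  {W : Ω → Subgroup G} {H : Subgroup G}

/-- The local data from a rank-one set-up on the points of `H`. -/
theorem exists_loc_of_setup (h : TISetting W) {a b : Ω} (ha : a ∈ pts W H) (hb : b ∈ pts W H)
    (hab : b ≠ a) (four : 4 ≤ Nat.card ↥(W a ⊓ H))
    (hker : ∀ z ∈ core W H, z * z = 1 → (∀ c ∈ pts W H, z • c = c) → z = 1)
    {t : ↥(h.CoreImg H)} {Qb : Subgroup ↥(h.CoreImg H)}
    (hS : IsRankOneSetup ↥(h.CoreImg H) ↥(h.coreAct H) ⟨a, ha⟩ t Qb)
    (hfacts : ∀ Z K : Subgroup ↥(h.CoreImg H), Small.Data (⟨a, ha⟩ : ↥(h.coreAct H)) t Qb Z K →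
      Line.SplitFacts Qb Z) :
    ∃ Q : Subgroup G, Loc W H a Q := by
  classical
  haveI : Fact (Nat.Prime 2) := ⟨Nat.prime_two⟩
  set pa : ↥(h.coreAct H) := ⟨a, ha⟩ with hpa
  -- the kernel
  have hcentral : ∀ {x : ↥(core W H)}, h.rho H x = 1 → ∀ y, Commute x y := fun hx y =>
    h.commute_of_rho_one ha hb hab.symm hx y
  have hkerTwo : ∀ x : ↥(core W H), h.rho H x = 1 → (∃ k : ℕ, x ^ 2 ^ k = 1) → x = 1 := by
    rintro x hx ⟨k, hk⟩
    induction k with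
    | zero => simpa using hk
    | succ k ih =>
      refine ih (Subtype.ext ?_)
      refine hker _ (x ^ 2 ^ k).2 ?_ (h.rho_eq_one.1 (by rw [map_pow, hx, one_pow]))
      rw [← Subgroup.coe_mul, ← pow_two, ← pow_mul, ← pow_succ, hk]
      rfl
  -- members at `a`
  let i := memberHom W H a
  have hi_inj : Function.Injective fun d : ↥(W a ⊓ H) => h.rho H (i d) :=
    h.member_img_injective hb hab
  have h2 := h.exists_two_img hb hab four
  obtain ⟨Z, K, A⟩ := Small.exists_data hS h2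
  have hF := hfacts Z K A
  have hiZ : ∀ d, h.rho H (i d) ∈ Z := h.member_img_mem A
  have hZ : ∀ β ∈ Z, ∃ d, h.rho H (i d) = β := fun β hβ => h.exists_member_img A hb hab hβ
  have hcardZ : Nat.card ↥(W a ⊓ H) = Nat.card Z := h.card_members_img A hb hab
  -- the preimage of the translations is nilpotent
  have hQ2 : IsPGroup 2 Qb := isPGroup_Q hS h2
  let P : Subgroup ↥(core W H) := Qb.comap (h.rho H)
  let f : P →* Qb := MonoidHom.mk' (fun x => ⟨h.rho H x, x.2⟩) fun x y => Subtype.ext (map_mul _ _ _)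
  haveI : Group.IsNilpotent Qb := hQ2.isNilpotent
  haveI : Group.IsNilpotent P := Subgroup.isNilpotent_of_ker_le_center f fun x hx =>
    Subgroup.mem_center_iff.2 fun y => Subtype.ext
      (hcentral (congrArg Subtype.val (MonoidHom.mem_ker.1 hx)) y).eq.symm
  let S : Sylow 2 P := default
  haveI : (S : Subgroup P).Normal :=
    S.normal_of_normalizerCondition Group.normalizerCondition_of_isNilpotent
  have hSmem : ∀ x : P, (∃ k : ℕ, x ^ 2 ^ k = 1) → x ∈ (S : Subgroup P) := by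
    intro x hx
    obtain ⟨k, hk⟩ := hx
    obtain ⟨j, -, hj⟩ := (Nat.dvd_prime_pow Nat.prime_two).1 (orderOf_dvd_of_pow_eq_one hk)
    have hp : IsPGroup 2 (Subgroup.zpowers x) :=
      IsPGroup.of_card (n := j) (by rw [Nat.card_zpowers, hj])
    obtain ⟨S', hS'⟩ := hp.exists_le_sylow
    haveI := Sylow.unique_of_normal S inferInstance
    rw [Subsingleton.elim S' S] at hS'
    exact hS' (Subgroup.mem_zpowers x)
  -- 2-elements of the stabiliser lie in the preimage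
  have hmemP : ∀ x : ↥(core W H), (x : G) • a = a → (∃ k : ℕ, (x : G) ^ 2 ^ k = 1) → x ∈ P := by
    rintro x hxa ⟨k, hk⟩
    refine Line.mem_of_two_power hS (Subtype.ext hxa) (k := k) ?_
    rw [← map_pow, show x ^ 2 ^ k = 1 from Subtype.ext hk, map_one]
  let Q : Subgroup G :=
    { carrier := {x | x ∈ core W H ∧ x • a = a ∧ ∃ k : ℕ, x ^ 2 ^ k = 1}
      one_mem' := ⟨one_mem _, one_smul _ _, 0, one_pow _⟩
      inv_mem' := fun {x} hx => ⟨inv_mem hx.1, inv_smul_eq_iff.2 hx.2.1.symm,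
        hx.2.2.imp fun k hk => by rw [inv_pow, hk, inv_one]⟩
      mul_mem' := fun {x y} hx hy => by
        refine ⟨mul_mem hx.1 hy.1, by rw [mul_smul, hy.2.1, hx.2.1], ?_⟩
        have hx' := hSmem ⟨⟨x, hx.1⟩, hmemP ⟨x, hx.1⟩ hx.2.1 hx.2.2⟩
          (hx.2.2.imp fun k hk => Subtype.ext (Subtype.ext hk))
        have hy' := hSmem ⟨⟨y, hy.1⟩, hmemP ⟨y, hy.1⟩ hy.2.1 hy.2.2⟩
          (hy.2.2.imp fun k hk => Subtype.ext (Subtype.ext hk))
        obtain ⟨k, hk⟩ := S.isPGroup' ⟨_, mul_mem hx' hy'⟩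
        exact ⟨k, congrArg (fun z : (S : Subgroup P) => (((z : P) : ↥(core W H)) : G)) hk⟩ }
  have hQP : ∀ (x : ↥(core W H)), (x : G) ∈ Q → h.rho H x ∈ Qb := fun x hx => hmemP x hx.2.1 hx.2.2
  have hinjQ : ∀ x y : ↥(core W H), (x : G) ∈ Q → (y : G) ∈ Q → h.rho H x = h.rho H y → x = y := by
    intro x y hx hy e
    refine (inv_mul_eq_one.1 (hkerTwo _ ?_ ?_)).symm
    · rw [map_mul, map_inv, e, inv_mul_cancel]
    · obtain ⟨-, -, k, hk⟩ := Q.mul_mem (Q.inv_mem hy) hx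
      exact ⟨k, Subtype.ext hk⟩
  have hlift : ∀ β ∈ Qb, ∃ x : ↥(core W H), (x : G) ∈ Q ∧ h.rho H x = β := by
    intro β hβ
    obtain ⟨k, m, hm, e⟩ := Nat.exists_eq_two_pow_mul_odd (Nat.card_pos (α := ↥(core W H))).ne'
    have hcop : Nat.Coprime m (orderOf (⟨β, hβ⟩ : Qb)) := by
      obtain ⟨j, hj⟩ := IsPGroup.iff_orderOf.1 hQ2 ⟨β, hβ⟩
      rw [hj]
      exact Nat.Coprime.pow_right j (Nat.coprime_two_right.2 hm)
    obtain ⟨n, hn⟩ := exists_pow_eq_self_of_coprime hcop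
    obtain ⟨x, hx⟩ := h.rho_surjective H β
    have hxa : (x : G) • a = a := by
      have h0 : β • pa = pa := hS.le hβ
      rw [← hx] at h0
      exact congrArg Subtype.val h0
    refine ⟨(x ^ m) ^ n, ⟨((x ^ m) ^ n).2, ?_, k, ?_⟩, ?_⟩
    · rw [SubgroupClass.coe_pow, SubgroupClass.coe_pow]
      exact pow_mem (pow_mem (show (x : G) ∈ stabilizer G a from hxa) m) n
    · rw [← SubgroupClass.coe_pow, ← pow_mul, ← pow_mul, show m * (n * 2 ^ k) = n * (2 ^ k * m) by ring,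
        ← e, pow_mul', pow_card_eq_one', one_pow]
      rfl
    · rw [map_pow, map_pow, hx]
      exact congrArg Subtype.val hn
  have hWQ : W a ⊓ H ≤ Q := fun d hd => ⟨mem_core_of_mem hd, mem_stabilizer_iff.1 (h.fix a hd.1), 1,
    by rw [pow_one, pow_two, h.sq a d hd.1]⟩
  -- elements of `Q` over `Z` are members
  have hback : ∀ (x : ↥(core W H)), (x : G) ∈ Q → h.rho H x ∈ Z → (x : G) ∈ W a := by
    intro x hx hxZ
    obtain ⟨d, hd⟩ := hZ _ hxZ
    rw [← hinjQ (i d) x (hWQ d.2) hx hd]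
    exact d.2.1
  have hfwd : ∀ (x : ↥(core W H)), (x : G) ∈ W a → h.rho H x ∈ Z := fun x hx =>
    hiZ ⟨x, hx, core_le W H x.2⟩
  have hcardQ : Nat.card Q = Nat.card Qb := by
    refine Nat.card_eq_of_bijective (fun x : Q => (⟨_, hQP ⟨x, x.2.1⟩ x.2⟩ : Qb))
      ⟨fun x y e => ?_, fun β => ?_⟩
    · exact Subtype.ext (congrArg Subtype.val
        (hinjQ ⟨x, x.2.1⟩ ⟨y, y.2.1⟩ x.2 y.2 (congrArg Subtype.val e)) :)
    · obtain ⟨x, hxQ, hx⟩ := hlift β β.2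
      exact ⟨⟨x, hxQ⟩, Subtype.ext hx⟩
  have hsqcard : Nat.card Q = Nat.card ↥(W a ⊓ H) ^ 2 → Nat.card Qb = Nat.card Z ^ 2 := fun e => by
    rwa [hcardQ, hcardZ] at e
  refine ⟨Q, ⟨fun x hx => ⟨hx.1, hx.2.1⟩, ?_, fun x hx hxa hx2 => ⟨hx, hxa, hx2⟩, ?_, hWQ, ?_, ?_,
    ?_, ?_, ?_, ?_, ?_, ?_, ?_⟩⟩
  · intro x
    obtain ⟨k, hk⟩ := x.2.2.2
    exact ⟨k, Subtype.ext hk⟩
  · intro g hg hga x hx
    refine ⟨h.conj_mem_core hg hx.1, by
      rw [mul_smul, mul_smul, inv_smul_eq_iff.2 hga.symm, hx.2.1, hga], hx.2.2.imp fun k hk => ?_⟩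
    rw [conj_pow, hk, mul_one, mul_inv_cancel]
  · intro x hx hxx
    refine hback ⟨x, hx.1⟩ hx ((A.mem_Z _).2 ⟨hS.le (hQP ⟨x, hx.1⟩ hx), ?_⟩)
    rw [← map_mul, show (⟨x, hx.1⟩ : ↥(core W H)) * ⟨x, hx.1⟩ = 1 from Subtype.ext hxx, map_one]
  · intro x hx d hd
    have hd' := hWQ hd
    have h1 := hinjQ (⟨x, hx.1⟩ * ⟨d, hd'.1⟩) (⟨d, hd'.1⟩ * ⟨x, hx.1⟩) (Q.mul_mem hx hd')
      (Q.mul_mem hd' hx) (by
        rw [map_mul, map_mul]
        exact ((A.central _ (hiZ ⟨d, hd⟩)).2 _ (hQP ⟨x, hx.1⟩ hx)).symm)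
    exact congrArg Subtype.val h1
  · intro x hx
    refine hback (⟨x, hx.1⟩ * ⟨x, hx.1⟩) (Q.mul_mem hx hx) ?_
    rw [map_mul]
    exact hF.sq_mem _ (hQP ⟨x, hx.1⟩ hx)
  · intro x hx y hy
    refine hback ⁅(⟨x, hx.1⟩ : ↥(core W H)), ⟨y, hy.1⟩⁆ ?_ ?_
    · exact Q.mul_mem (Q.mul_mem (Q.mul_mem hx hy) (Q.inv_mem hx)) (Q.inv_mem hy)
    · rw [map_commutatorElement]
      exact hF.comm_mem _ (hQP ⟨x, hx.1⟩ hx) _ (hQP ⟨y, hy.1⟩ hy)
  · intro c hc hca d hd hda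
    obtain ⟨β, hβ, huniq⟩ := regular hS (b := (⟨c, hc⟩ : ↥(h.coreAct H))) (c := ⟨d, hd⟩)
      (fun e => hca (congrArg Subtype.val e)) (fun e => hda (congrArg Subtype.val e))
    obtain ⟨x, hxQ, hx⟩ := hlift β β.2
    refine ⟨x, ⟨hxQ, ?_⟩, ?_⟩
    · rw [← hx] at hβ
      exact congrArg Subtype.val hβ
    · rintro y ⟨hy, hyc⟩
      have h1 := huniq ⟨_, hQP ⟨y, hy.1⟩ hy⟩ (Subtype.ext hyc)
      exact congrArg Subtype.val (hinjQ ⟨y, hy.1⟩ x hy hxQ (by rw [hx]; exact congrArg Subtype.val h1))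
  · rw [hcardQ, hcardZ]
    rcases Line.card_translations hS h2 A with ⟨-, e | e⟩ | ⟨-, e⟩
    exacts [Or.inl e, Or.inr (Or.inl e), Or.inr (Or.inr e)]
  · intro e
    rw [hcardZ]
    exact hF.square_log (hsqcard e)
  · intro e x hx y hy hxy
    refine hback (⟨x, hx.1⟩⁻¹ * ⟨y, hy.1⟩) (Q.mul_mem (Q.inv_mem hx) hy) ?_
    rw [map_mul, map_inv]
    refine hF.square_inj (hsqcard e) _ (hQP ⟨x, hx.1⟩ hx) _ (hQP ⟨y, hy.1⟩ hy) ?_
    rw [← map_mul, ← map_mul]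
    exact congrArg (h.rho H) (Subtype.ext hxy)
  · intro e x hx hxW y hy hxy
    rcases hF.square_comm (hsqcard e) _ (hQP ⟨x, hx.1⟩ hx) (fun hz => hxW (hback ⟨x, hx.1⟩ hx hz))
      _ (hQP ⟨y, hy.1⟩ hy) (by
        show _ * _ = _ * _
        rw [← map_mul, ← map_mul]
        exact congrArg (h.rho H) (Subtype.ext hxy.eq)) with h1 | h1
    · exact Or.inl (hback ⟨y, hy.1⟩ hy h1)
    · refine Or.inr (hback (⟨x, hx.1⟩⁻¹ * ⟨y, hy.1⟩) (Q.mul_mem (Q.inv_mem hx) hy) ?_)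
      rw [map_mul, map_inv]
      exact h1

end TISetting

end CfsgLib.LocalEven.TIEndgame
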