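import Cfsg.Agent.Lib.LocalEven.TIEndgame.Line.Torus
import Cfsg.Agent.Lib.Perm.ZGroup.SuzukiUnique.Iso
import Mathlib.GroupTheory.Commutator.Basic

/-!
# Squares in the translation group of a rank-one set-up

`Z` is the group of involutions of the translation group `Q`. Squares and commutators lie in `Z`.
If `|Q| = |Z|²` then `|Z|` is an odd power of `2`, squaring is injective modulo `Z` and an element
outside `Z` commutes only with its own coset and `Z`.
-/

set_option autoImplicit false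
set_option linter.style.haveILetI false

open Cfsg

namespace CfsgLib.LocalEven.TIEndgame.Line

open MulAction CfsgLib.RankOne
open scoped commutatorElement

variable {G Ω : Type*} [Group G] [Finite G] [MulAction G Ω] [FaithfulSMul G Ω] {a : Ω} {t : G}
  {Q Z K : Subgroup G}

/-- The squares of translations are involutions. -/
theorem sq_mem_Z (A : Small.Data a t Q Z K)
    (h2 : ∃ x y : G, x ≠ 1 ∧ y ≠ 1 ∧ x ≠ y ∧ x * x = 1 ∧ y * y = 1 ∧ x * y = y * x)
    {x : G} (hx : x ∈ Q) : x * x ∈ Z := by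
  haveI : Fact (Nat.Prime 2) := ⟨Nat.prime_two⟩
  rcases card_translations A.setup h2 A with ⟨-, e | e⟩ | ⟨hW, -⟩
  · exact (Subgroup.eq_of_le_of_card_ge A.Z_le_Q e.le).symm ▸ mul_mem hx hx
  · by_contra hy
    have hxZ : x ∉ Z := fun h => hy (A.Z_sq h ▸ one_mem Z)
    obtain ⟨k, hk, z, hz, he⟩ := A.exists_conj_coset e hx hxZ (mul_mem hx hx) hy
    have hconj : x * x * (x * x) = k * (x * x) * k⁻¹ := by
      have hc : z * (k * x * k⁻¹) = k * x * k⁻¹ * z :=
        (A.central z hz).2 _ (A.conj_Q (A.le_two hk) hx)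
      calc x * x * (x * x) = k * x * k⁻¹ * (z * (k * x * k⁻¹)) * z := by rw [he]; group
        _ = k * (x * x) * k⁻¹ * (z * z) := by rw [hc]; group
        _ = k * (x * x) * k⁻¹ := by rw [A.Z_sq hz, mul_one]
    have hord : orderOf (x * x * (x * x)) = orderOf (x * x) := by
      rw [hconj]; exact (MulAut.conj k).orderOf_eq _
    obtain ⟨n, hn⟩ := (isPGroup_Q A.setup h2).exists_orderOf_eq_pow ⟨x * x, mul_mem hx hx⟩
    rw [Subgroup.orderOf_mk] at hn
    rcases n with _ | n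
    · rw [pow_zero, orderOf_eq_one_iff] at hn
      exact hy (hn ▸ one_mem Z)
    · rw [← pow_two, orderOf_pow, hn, Nat.gcd_eq_right (dvd_pow_self 2 n.succ_ne_zero)] at hord
      have := Nat.div_lt_self (pow_pos (by norm_num : 0 < 2) (n + 1)) (by norm_num : 1 < 2)
      omega
  · obtain ⟨hsuz, -⟩ := (kernelW_dichotomy A.setup h2).resolve_left hW
    have h := (Cfsg.Agent.S1138.result hsuz).1 ⟨x, hx⟩
    rw [A.center_eq hsuz] at h
    exact h

/-- The commutators of translations are involutions. -/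
theorem comm_mem_Z (A : Small.Data a t Q Z K)
    (h2 : ∃ x y : G, x ≠ 1 ∧ y ≠ 1 ∧ x ≠ y ∧ x * x = 1 ∧ y * y = 1 ∧ x * y = y * x)
    {x y : G} (hx : x ∈ Q) (hy : y ∈ Q) : ⁅x, y⁆ ∈ Z := by
  have hxx := inv_mem (sq_mem_Z A h2 hx)
  have h : ⁅x, y⁆ = x * y * (x * y) * ((x * x)⁻¹ * (y * y)⁻¹) := by
    have hc : (x * x)⁻¹ * y⁻¹ = y⁻¹ * (x * x)⁻¹ := (A.central _ hxx).2 _ (inv_mem hy)
    calc ⁅x, y⁆ = x * y * (x * y) * (y⁻¹ * (x * x)⁻¹ * y⁻¹) := by
          rw [commutatorElement_def]; group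
      _ = _ := by rw [← hc]; group
  rw [h]
  exact mul_mem (sq_mem_Z A h2 (mul_mem hx hy)) (mul_mem hxx (inv_mem (sq_mem_Z A h2 hy)))

omit [FaithfulSMul G Ω] in
/-- If `|Q| = |Z|²`, squaring is injective modulo `Z`. -/
theorem square_inj (A : Small.Data a t Q Z K) (hcard : Nat.card Q = Nat.card Z ^ 2) {x y : G}
    (hx : x ∈ Q) (hy : y ∈ Q) (e : x * x = y * y) : x⁻¹ * y ∈ Z := by
  by_cases hxZ : x ∈ Z
  · exact mul_mem (inv_mem hxZ) (A.mem_Z_of_Q hy (e ▸ A.Z_sq hxZ))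
  have hyZ : y ∉ Z := fun h => hxZ (A.mem_Z_of_Q hx (e.trans (A.Z_sq h)))
  obtain ⟨k, hk, z, hz, he⟩ := A.exists_conj_coset hcard hx hxZ hy hyZ
  have hconj : x * x = k * (x * x) * k⁻¹ := by
    have hc : z * (k * x * k⁻¹) = k * x * k⁻¹ * z :=
      (A.central z hz).2 _ (A.conj_Q (A.le_two hk) hx)
    calc x * x = k * x * k⁻¹ * (z * (k * x * k⁻¹)) * z := by rw [e, he]; group
      _ = k * (x * x) * k⁻¹ * (z * z) := by rw [hc]; group
      _ = k * (x * x) * k⁻¹ := by rw [A.Z_sq hz, mul_one]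
  have hk1 : k = 1 := by
    by_contra hk1
    exact hxZ (A.mem_Z_of_Q hx (A.fpf k hk hk1 _ (mul_mem hx hx)
      (mul_inv_eq_iff_eq_mul.1 hconj.symm)))
  rw [he, hk1, one_mul, inv_one, mul_one, inv_mul_cancel_left]
  exact hz

open CfsgLib.Perm.ZGroup in
/-- Suzuki coordinates on `Q` if `|Q| = |Z|²`. -/
theorem exists_suzuki_coords (A : Small.Data a t Q Z K) (hcard : Nat.card Q = Nat.card Z ^ 2) :
    ∃ (F : Type) (_ : Field F) (φ : F ≃+* F) (_ : SuzukiUnique.TA φ ≃* Q) (r : ℕ),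
      (∀ c, φ c = c → c = 0 ∨ c = 1) ∧ CharP F 2 ∧ Odd r ∧ 3 ≤ r ∧ Nat.card Z = 2 ^ r := by
  classical
  haveI : Fact (Nat.Prime 2) := ⟨Nat.prime_two⟩
  haveI := finite_space A.setup
  letI := Fintype.ofFinite Ω
  have hF := A.frame (Or.inr hcard)
  haveI := A.isSimple_span hF
  have hL := A.setup_span hF
  let S : Setup (Small.span t Q K) Ω a (t • a) :=
    ⟨A.isZassenhaus_span hF, (ta_ne A.setup).symm, Q.subgroupOf _, hL.le,
      ⟨fun x hx h => hL.conj_mem h h.2 x hx⟩, fun y z hy hz => regular hL hy hz⟩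
  let e : S.F ≃* Q := Subgroup.subgroupOfEquivOfLe Small.left_le_span
  have hSF : Nat.card S.F = Nat.card Q := Nat.card_congr e.toEquiv
  have hH : Nat.card S.H = Nat.card K := by
    refine Nat.card_congr (Equiv.ofBijective
      (fun g : S.H => (⟨((g : Small.span t Q K) : G), A.span_two hF (g : Small.span t Q K).2
        ((mem_two A.setup).mpr ⟨g.2.1, g.2.2⟩)⟩ : K)) ⟨fun g g' h => ?_, fun k => ?_⟩)
    · have h' := congrArg Subtype.val h
      exact Subtype.ext (Subtype.ext h')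
    · exact ⟨⟨⟨k, Small.right_le_span k.2⟩, ((mem_two A.setup).mp (A.le_two k.2)).1,
        ((mem_two A.setup).mp (A.le_two k.2)).2⟩, rfl⟩
  obtain ⟨n, hn⟩ := A.isPGroup_Z.exists_card_eq
  have h2F : IsPGroup 2 S.F := IsPGroup.of_card (n := n * 2) (by rw [hSF, hcard, hn, ← pow_mul])
  have hK3 : 3 ≤ Nat.card Z := by have := A.card_Z; have := A.two_le_K; omega
  have hnab : ¬ IsMulCommutative S.F := by
    intro hab
    rcases S.simple_abelian hab with ⟨p, f, L, _, _, hp, hp2, -, hΩ, -⟩ | ⟨-, hc, -, -⟩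
    · obtain ⟨m, hm⟩ := h2F.exists_card_eq
      have h1 := S.card_F
      have h4 := S.two_le_F
      have he : p ^ f = 2 ^ m := by omega
      have hf : f ≠ 0 := by rintro rfl; rw [pow_zero] at he; omega
      exact hp2 ((Nat.prime_dvd_prime_iff_eq hp Nat.prime_two).mp
        (hp.dvd_of_dvd_pow (he ▸ dvd_pow_self p hf)))
    · have h1 := A.card_Z
      rw [hH, hSF, hcard] at hc
      nlinarith [Nat.sub_add_cancel (show 1 ≤ Nat.card Z ^ 2 from Nat.one_le_pow _ _ (by omega))]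
  have hT : S.IsTwoKernel := ⟨h2F, hnab⟩
  obtain ⟨m, hmo, hm, hq, hFm⟩ := hT.suzuki_params
  have hmo' := hmo
  obtain ⟨j, rfl⟩ := hmo'
  let F := GaloisField 2 (2 * j + 1)
  letI := Fintype.ofFinite F
  have hcardF : Fintype.card F = 2 ^ (2 * j + 1) := by
    rw [← Nat.card_eq_fintype_card]; exact GaloisField.card 2 _ (by omega)
  obtain ⟨C, hC⟩ := SuzukiUnique.exists_normal_coord hT F hq hFm hcardF
  refine ⟨F, inferInstance, C.φ, C.θ.trans e, 2 * j + 1, fun c hc => ?_, inferInstance, hmo,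
    by omega, by rw [A.card_Z, ← hH, hq]⟩
  have h := hC.twist c
  rw [hc, hc, pow_two] at h
  rcases eq_or_ne c 0 with h0 | h0
  · exact Or.inl h0
  · exact Or.inr ((mul_eq_left₀ h0).1 h)

/-- If `|Q| = |Z|²` then `|Z|` is an odd power of `2`, at least `8`. -/
theorem square_log (A : Small.Data a t Q Z K) (hcard : Nat.card Q = Nat.card Z ^ 2) :
    ∃ r : ℕ, Odd r ∧ 3 ≤ r ∧ Nat.card Z = 2 ^ r := by
  obtain ⟨F, _, φ, θ, r, -, -, hr⟩ := exists_suzuki_coords A hcard
  exact ⟨r, hr⟩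

/-- If `|Q| = |Z|²`, an element outside `Z` commutes only with `Z` and its coset. -/
theorem square_comm (A : Small.Data a t Q Z K) (hcard : Nat.card Q = Nat.card Z ^ 2) {x y : G}
    (hx : x ∈ Q) (hxZ : x ∉ Z) (hy : y ∈ Q) (hc : Commute x y) : y ∈ Z ∨ x⁻¹ * y ∈ Z := by
  obtain ⟨F, _, φ, θ, -, hφ, _, -⟩ := exists_suzuki_coords A hcard
  have hmem : ∀ {u : G} (hu : u ∈ Q) (w), θ w = ⟨u, hu⟩ → w.fst = 0 → u ∈ Z := by
    intro u hu w hw h0
    have h := congrArg Subtype.val (map_mul θ w w)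
    rw [CfsgLib.Perm.ZGroup.SuzukiUnique.TA.mul_self, h0, zero_mul] at h
    rw [Subgroup.coe_mul, hw] at h
    exact A.mem_Z_of_Q hu (h.symm.trans (congrArg Subtype.val (map_one θ)))
  obtain ⟨u, hu⟩ := θ.surjective ⟨x, hx⟩
  obtain ⟨w, hw⟩ := θ.surjective ⟨y, hy⟩
  have hu0 : u.fst ≠ 0 := fun h0 => hxZ (hmem hx u hu h0)
  have huw : u * w = w * u := θ.injective (by
    rw [map_mul, map_mul, hu, hw]; exact Subtype.ext hc)
  have hs := congrArg CfsgLib.Perm.ZGroup.SuzukiUnique.TA.snd huw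
  simp only [CfsgLib.Perm.ZGroup.SuzukiUnique.TA.mul_snd] at hs
  have hs' : u.fst * φ w.fst = w.fst * φ u.fst := by linear_combination hs
  have hfix : φ (w.fst / u.fst) = w.fst / u.fst := by
    have hφu : φ u.fst ≠ 0 := by simpa using hu0
    rw [map_div₀, div_eq_div_iff hφu hu0]
    linear_combination hs'
  rcases hφ _ hfix with h | h
  · exact Or.inl (hmem hy w hw ((div_eq_zero_iff.1 h).resolve_right hu0))
  · refine Or.inr (hmem (mul_mem (inv_mem hx) hy) (u⁻¹ * w) ?_ ?_)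
    · rw [map_mul, map_inv, hu, hw]; rfl
    · rw [CfsgLib.Perm.ZGroup.SuzukiUnique.TA.mul_fst, CfsgLib.Perm.ZGroup.SuzukiUnique.TA.inv_fst,
        (div_eq_one_iff_eq hu0).1 h, neg_add_cancel]

end CfsgLib.LocalEven.TIEndgame.Line
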