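import Cfsg.Agent.Lib.LocalEven.TIEndgame.Glue
import Cfsg.Agent.Lib.LocalEven.TIEndgame.RotData
import Cfsg.Agent.Lib.LocalEven.TIEndgame.Line.CoreImage
import Cfsg.Agent.Lib.LocalEven.TIEndgame.Line.KernelOdd
import Cfsg.Agent.Lib.LocalEven.TIEndgame.Line.Split
import Cfsg.Agent.Lib.LocalEven.TIEndgame.Line.SquareFields

/-!
# The splitting at every proper core
-/

set_option autoImplicit false
set_option linter.style.haveILetI false

namespace CfsgLib.LocalEven.TIEndgame

open MulAction CfsgLib.RankOne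

universe u

variable {G Ω : Type u} [Group G] [Finite G] [Finite Ω] [MulAction G Ω] [FaithfulSMul G Ω]
  {W : Ω → Subgroup G}

/-- The splitting at every proper core. -/
theorem TIMin.coreLocHyp (h : TIMin G Ω W) : CoreLocHyp W := by
  intro H a b hne ha hb hba four
  obtain ⟨-, h2, t, Qb, hS⟩ := h.exists_core_setup hne ha hb hba four
  haveI : Finite ↥(h.toTISetting.coreAct H) := Subtype.finite
  haveI : FaithfulSMul ↥(h.toTISetting.CoreImg H) ↥(h.toTISetting.coreAct H) :=
    ⟨fun e => Subtype.ext (Equiv.ext e)⟩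
  have hfacts : ∀ Z K : Subgroup ↥(h.toTISetting.CoreImg H),
      Small.Data (⟨a, ha⟩ : ↥(h.toTISetting.coreAct H)) t Qb Z K → Line.SplitFacts Qb Z :=
    fun Z K A =>
      { sq_mem := fun _ hx => Line.sq_mem_Z A h2 hx
        comm_mem := fun _ hx _ hy => Line.comm_mem_Z A h2 hx hy
        square_log := Line.square_log A
        square_inj := fun hc _ hx _ hy e => Line.square_inj A hc hx hy e
        square_comm := fun hc _ hx hxZ _ hy h => Line.square_comm A hc hx hxZ hy h }
  obtain ⟨Q, hQ⟩ := h.toTISetting.exists_loc_of_setup ha hb hba four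
    (h.toTISetting.kernel_odd ha hb hba four hS hfacts) hS hfacts
  exact ⟨Q, hQ, h.toTISetting.exists_torus_rot hQ ha hb hba four⟩

end CfsgLib.LocalEven.TIEndgame
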