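import Cfsg.Agent.Lib.LocalEven.TIEndgame.Torus

/-!
# The members at a point in the image of a core
-/

set_option autoImplicit false
set_option linter.style.haveILetI false

open Cfsg

namespace CfsgLib.LocalEven.TIEndgame

open MulAction CfsgLib.RankOne

universe u v

variable {G : Type u} {Ω : Type v} [Group G] [MulAction G Ω] {W : Ω → Subgroup G} {H : Subgroup G}

omit [MulAction G Ω] in
/-- The members at `a` in `H`, inside the core. -/
def memberHom (W : Ω → Subgroup G) (H : Subgroup G) (a : Ω) : ↥(W a ⊓ H) →* ↥(core W H) where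
  toFun d := ⟨d, mem_core_of_mem d.2⟩
  map_one' := rfl
  map_mul' _ _ := rfl

namespace TISetting

variable (h : TISetting W) {a b : Ω}
include h

theorem member_img_injective (hb : b ∈ pts W H) (hab : b ≠ a) :
    Function.Injective fun d : ↥(W a ⊓ H) => h.rho H (memberHom W H a d) := by
  intro d e hde
  by_contra hne
  have h1 : h.rho H (memberHom W H a (e⁻¹ * d)) = 1 := by
    rw [map_mul, map_inv, map_mul, map_inv]
    exact inv_mul_eq_one.2 hde.symm
  exact hab (h.unique a _ (e⁻¹ * d).2.1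
    (fun e' => hne (inv_mul_eq_one.1 (Subtype.ext e' : e⁻¹ * d = 1)).symm) b
    (h.rho_eq_one.1 h1 b hb))

theorem member_img_sq (d : ↥(W a ⊓ H)) :
    h.rho H (memberHom W H a d) * h.rho H (memberHom W H a d) = 1 := by
  rw [← map_mul, ← map_mul, show d * d = 1 from Subtype.ext (h.sq a d d.2.1), map_one, map_one]

theorem member_img_fix (ha : a ∈ pts W H) (d : ↥(W a ⊓ H)) :
    h.rho H (memberHom W H a d) ∈ stabilizer ↥(h.CoreImg H) (⟨a, ha⟩ : ↥(h.coreAct H)) :=
  Subtype.ext (mem_stabilizer_iff.1 (h.fix a d.2.1))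

/-- The image has two commuting involutions. -/
theorem exists_two_img [Finite G] (hb : b ∈ pts W H) (hab : b ≠ a)
    (four : 4 ≤ Nat.card ↥(W a ⊓ H)) :
    ∃ x y : ↥(h.CoreImg H), x ≠ 1 ∧ y ≠ 1 ∧ x ≠ y ∧ x * x = 1 ∧ y * y = 1 ∧ x * y = y * x := by
  classical
  have hinj := h.member_img_injective (a := a) hb hab
  haveI : Nontrivial ↥(W a ⊓ H) := Finite.one_lt_card_iff_nontrivial.1 (by omega)
  obtain ⟨d₁, hd₁⟩ := exists_ne (1 : ↥(W a ⊓ H))
  obtain ⟨d₂, hd₂, hd₂'⟩ : ∃ e : ↥(W a ⊓ H), e ≠ 1 ∧ e ≠ d₁ := by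
    by_contra hno
    push Not at hno
    haveI := Fintype.ofFinite ↥(W a ⊓ H)
    have hle := Finset.card_le_card (s := (Finset.univ : Finset ↥(W a ⊓ H))) (t := {1, d₁})
      fun e _ => by
        rcases eq_or_ne e 1 with rfl | he
        · simp
        · simp [hno e he]
    rw [Finset.card_univ, ← Nat.card_eq_fintype_card] at hle
    have := Finset.card_le_two (a := (1 : ↥(W a ⊓ H))) (b := d₁)
    omega
  have hone : h.rho H (memberHom W H a 1) = 1 := by rw [map_one, map_one]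
  exact ⟨h.rho H (memberHom W H a d₁), h.rho H (memberHom W H a d₂),
    fun e => hd₁ (hinj (e.trans hone.symm)), fun e => hd₂ (hinj (e.trans hone.symm)),
    fun e => hd₂' (hinj e).symm, h.member_img_sq _, h.member_img_sq _, by
      rw [← map_mul, ← map_mul, ← map_mul, ← map_mul]
      exact congrArg (fun d => h.rho H (memberHom W H a d))
        (Subtype.ext (h.mul_comm_of_mem d₁.2.1 d₂.2.1).eq)⟩

variable [Finite G] [Finite Ω] {ha : a ∈ pts W H} {t : ↥(h.CoreImg H)}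
  {Qb Z K : Subgroup ↥(h.CoreImg H)}
  (A : Small.Data (⟨a, ha⟩ : ↥(h.coreAct H)) t Qb Z K)
include A

theorem member_img_mem (d : ↥(W a ⊓ H)) : h.rho H (memberHom W H a d) ∈ Z :=
  (A.mem_Z _).2 ⟨h.member_img_fix ha d, h.member_img_sq d⟩

/-- The involutions of the image at `a` come from the members at `a`. -/
theorem exists_member_img (hb : b ∈ pts W H) (hab : b ≠ a) {β : ↥(h.CoreImg H)} (hβ : β ∈ Z) :
    ∃ d, h.rho H (memberHom W H a d) = β := by
  by_cases hβ1 : β = 1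
  · exact ⟨1, by rw [map_one, map_one, hβ1]⟩
  have hinjm := h.member_img_injective (a := a) hb hab
  obtain ⟨d, hd, hd1, hdH⟩ := h.exists_member ha
  set d₁ : ↥(W a ⊓ H) := ⟨d, hd, hdH⟩
  have hiZ := h.member_img_mem A d₁
  have hρd₁ : h.rho H (memberHom W H a d₁) ≠ 1 := fun e => hd1 (congrArg Subtype.val
    (hinjm (a₁ := d₁) (a₂ := 1) (e.trans (by simp only [map_one]))))
  let φ : K → ↥((Z : Set ↥(h.CoreImg H)) \ {1}) := fun k =>
    ⟨(k : ↥(h.CoreImg H)) * h.rho H (memberHom W H a d₁) * (k : ↥(h.CoreImg H))⁻¹,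
      A.conj_Z (A.le_two k.2) hiZ, fun e => hρd₁ (conj_eq_one_iff.1 e)⟩
  have hinj : Function.Injective φ := by
    intro k k' hkk
    have hkk' : (k : ↥(h.CoreImg H)) * h.rho H (memberHom W H a d₁) * (k : ↥(h.CoreImg H))⁻¹ =
        k' * h.rho H (memberHom W H a d₁) * (k' : ↥(h.CoreImg H))⁻¹ := congrArg Subtype.val hkk
    by_contra hne
    refine hρd₁ (A.fpf ((k' : ↥(h.CoreImg H))⁻¹ * k) (mul_mem (inv_mem k'.2) k.2)
      (fun e => hne (Subtype.ext (inv_mul_eq_one.1 e).symm)) _ (A.Z_le_Q hiZ) ?_)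
    calc (k' : ↥(h.CoreImg H))⁻¹ * k * h.rho H (memberHom W H a d₁)
        = (k' : ↥(h.CoreImg H))⁻¹ * ((k : ↥(h.CoreImg H)) * h.rho H (memberHom W H a d₁) *
            (k : ↥(h.CoreImg H))⁻¹) * k := by group
      _ = _ := by rw [hkk']; group
  have hcard : Nat.card ↥((Z : Set ↥(h.CoreImg H)) \ {1}) ≤ Nat.card K := by
    rw [Nat.card_coe_set_eq, Set.ncard_diff_singleton_of_mem (one_mem Z), ← Nat.card_coe_set_eq]
    exact (Nat.sub_le_iff_le_add.2 A.card_Z.le)
  obtain ⟨k, hk⟩ := (hinj.bijective_of_nat_card_le hcard).2 ⟨β, hβ, hβ1⟩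
  have hk' : (k : ↥(h.CoreImg H)) * h.rho H (memberHom W H a d₁) * (k : ↥(h.CoreImg H))⁻¹ = β :=
    congrArg Subtype.val hk
  obtain ⟨x, hx⟩ := h.rho_surjective H k
  have hxa : (x : G) • a = a := by
    have h0 : (k : ↥(h.CoreImg H)) • (⟨a, ha⟩ : ↥(h.coreAct H)) = ⟨a, ha⟩ := (A.le_two k.2).1
    rw [← hx] at h0
    exact congrArg Subtype.val h0
  have hmem : (x : G) * d * (x : G)⁻¹ ∈ W a ⊓ H := by
    have hxH := core_le W H x.2
    refine ⟨?_, H.mul_mem (H.mul_mem hxH hdH) (H.inv_mem hxH)⟩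
    have := h.conj x a d hd
    rwa [hxa] at this
  refine ⟨⟨_, hmem⟩, ?_⟩
  rw [← hk', ← hx, ← map_inv, ← map_mul, ← map_mul]
  rfl

theorem card_members_img (hb : b ∈ pts W H) (hab : b ≠ a) :
    Nat.card ↥(W a ⊓ H) = Nat.card Z :=
  Nat.card_eq_of_bijective (fun d => (⟨_, h.member_img_mem A d⟩ : Z))
    ⟨fun _ _ hde => h.member_img_injective hb hab (congrArg Subtype.val hde), fun β => by
      obtain ⟨d, hd⟩ := h.exists_member_img A hb hab β.2
      exact ⟨d, Subtype.ext hd⟩⟩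

end TISetting

end CfsgLib.LocalEven.TIEndgame
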