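import Cfsg.Agent.Lib.LocalEven.TIEndgame.Line.Split
import Cfsg.Agent.Lib.LocalEven.TIEndgame.Line.SquareFields

/-!
# The facts needed for the splitting, from the data of a rank-one set-up
-/

set_option autoImplicit false

open Cfsg

namespace CfsgLib.LocalEven.TIEndgame.Line

open CfsgLib.RankOne

/-- Squares and commutators of translations are as needed for `Loc`. -/
theorem splitFacts_of_data {G Ω : Type*} [Group G] [Finite G] [MulAction G Ω] [FaithfulSMul G Ω]
    {a : Ω} {t : G} {Q Z K : Subgroup G} (A : Small.Data a t Q Z K)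
    (h2 : ∃ x y : G, x ≠ 1 ∧ y ≠ 1 ∧ x ≠ y ∧ x * x = 1 ∧ y * y = 1 ∧ x * y = y * x) :
    SplitFacts Q Z where
  sq_mem _ hx := sq_mem_Z A h2 hx
  comm_mem _ hx _ hy := comm_mem_Z A h2 hx hy
  square_log hc := square_log A hc
  square_inj hc _ hx _ hy e := square_inj A hc hx hy e
  square_comm hc _ hx hxZ _ hy h := square_comm A hc hx hxZ hy h

end CfsgLib.LocalEven.TIEndgame.Line
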